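/-
Criteria for the pronormality of the subgroups of index prime to `p`.

* `pron_of_surjective` : the property passes to quotients
* `pron_of_normalizer` : it is enough to treat the conjugators normalising one Sylow subgroup
* `pron_of_sylow_central` : elements of order prime to `p` normalising a Sylow subgroup are central
* `pron_of_bruhat` : `G = U N U` with `N` normalising the abelian group `T` and `N(U) = U T`
-/
import Cfsg.Agent.S4270

set_option autoImplicit false

namespace Cfsg.Agent.PronormalOdd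

open Cfsg.Agent.S4270

variable {G : Type*} [Group G]

/-- Every subgroup of index prime to `p` is pronormal. -/
def AllPron (p : ℕ) (G : Type*) [Group G] : Prop :=
  ∀ K : Subgroup G, ¬ p ∣ K.index → Cfsg.IsPronormal K

theorem pron_of_surjective {H : Type*} [Group H] {p : ℕ} {f : G →* H} (hf : Function.Surjective f)
    (h : AllPron p G) : AllPron p H := by
  intro K hK
  have h' := pron_map hf (h (K.comap f) (by rwa [Subgroup.index_comap_of_surjective K hf]))
  rwa [Subgroup.map_comap_eq_self_of_surjective hf] at h'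

theorem pron_cj {K : Subgroup G} (g : G) (h : Cfsg.IsPronormal K) : Cfsg.IsPronormal (cj g K) :=
  pron_map (MulAut.conj g).surjective h

variable [Finite G] {p : ℕ} [Fact p.Prime]

theorem pron_of_normalizer {P : Sylow p G} {K : Subgroup G} (hP : (P : Subgroup G) ≤ K)
    (h : ∀ n ∈ Subgroup.normalizer ((P : Subgroup G) : Set G), ∃ x ∈ K ⊔ cj n K, cj n K = cj x K) :
    Cfsg.IsPronormal K := by
  intro g
  obtain ⟨x, hx, he⟩ := sylow_conj_in P g (hP.trans (le_sup_left (b := cj g K)))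
    ((cj_mono g hP).trans le_sup_right)
  have hn : x⁻¹ * g ∈ Subgroup.normalizer ((P : Subgroup G) : Set G) :=
    cj_self_iff.mp (by rw [← cj_cj, ← he, cj_cj, inv_mul_cancel, cj_one])
  exact pron_step hx rfl (h _ hn)

theorem pron_of_normalizer_le {P : Sylow p G} {K : Subgroup G} (hP : (P : Subgroup G) ≤ K)
    (h : Subgroup.normalizer ((P : Subgroup G) : Set G) ≤ Subgroup.normalizer (K : Set G)) :
    Cfsg.IsPronormal K :=
  pron_of_normalizer hP fun n hn => ⟨1, one_mem _, by rw [cj_self_iff.mpr (h hn), cj_one]⟩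

/-- An element splits into commuting powers of `p`-power order and of order prime to `p`. -/
theorem exists_pp'_decomp (g : G) :
    ∃ a ∈ Subgroup.zpowers g, ∃ b ∈ Subgroup.zpowers g, g = a * b ∧ (∃ k, a ^ p ^ k = 1) ∧
      (orderOf b).Coprime p := by
  have hpp : p.Prime := Fact.out
  obtain ⟨k, m, hm, hn⟩ := Nat.exists_eq_pow_mul_and_not_dvd (orderOf_pos g).ne' p hpp.ne_one
  have hco : Nat.Coprime (p ^ k) m :=
    Nat.Coprime.pow_left _ ((Nat.Prime.coprime_iff_not_dvd hpp).mpr hm)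
  have hbez := Nat.gcd_eq_gcd_ab (p ^ k) m
  rw [hco.gcd_eq_one] at hbez
  set u := Nat.gcdA (p ^ k) m
  set v := Nat.gcdB (p ^ k) m
  have hg1 : g ^ ((p : ℤ) ^ k * m) = 1 := by
    have := pow_orderOf_eq_one g
    rw [hn, ← zpow_natCast] at this
    simpa using this
  refine ⟨g ^ ((m : ℤ) * v), ⟨_, rfl⟩, g ^ ((p : ℤ) ^ k * u), ⟨_, rfl⟩, ?_, ⟨k, ?_⟩, ?_⟩
  · rw [← zpow_add, show (m : ℤ) * v + (p : ℤ) ^ k * u = 1 by push_cast at hbez ⊢; linear_combination -hbez,
      zpow_one]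
  · rw [← zpow_natCast, ← zpow_mul,
      show (m : ℤ) * v * ((p ^ k : ℕ) : ℤ) = ((p : ℤ) ^ k * m) * v by push_cast; ring, zpow_mul, hg1, one_zpow]
  · refine Nat.Coprime.coprime_dvd_left (orderOf_dvd_of_pow_eq_one (n := m) ?_)
      ((Nat.Prime.coprime_iff_not_dvd hpp).mpr hm).symm
    rw [← zpow_natCast, ← zpow_mul,
      show (p : ℤ) ^ k * u * (m : ℤ) = ((p : ℤ) ^ k * m) * u by ring, zpow_mul, hg1, one_zpow]

/-- A `p`-element normalising a Sylow `p`-subgroup lies in it. -/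
theorem mem_sylow_of_normalizes (P : Sylow p G) {a : G}
    (ha : a ∈ Subgroup.normalizer ((P : Subgroup G) : Set G)) (hk : ∃ k, a ^ p ^ k = 1) : a ∈ P := by
  have hZ : IsPGroup p (Subgroup.zpowers a) := by
    rintro ⟨_, j, rfl⟩
    obtain ⟨k, hk⟩ := hk
    refine ⟨k, Subtype.ext ?_⟩
    show (a ^ j) ^ p ^ k = 1
    rw [← zpow_natCast, ← zpow_mul, mul_comm, zpow_mul, zpow_natCast, hk, one_zpow]
  have hle : Subgroup.zpowers a ≤ Subgroup.normalizer ((P : Subgroup G) : Set G) := by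
    rwa [Subgroup.zpowers_le]
  have h' := hZ.to_sup_of_normal_right' P.isPGroup' hle
  have := P.is_maximal' h' le_sup_right
  show a ∈ (P : Subgroup G)
  rw [← this]
  exact Subgroup.mem_sup_left (Subgroup.mem_zpowers a)

theorem pron_of_sylow_central
    (h : ∀ (P : Sylow p G) (b : G), b ∈ Subgroup.normalizer ((P : Subgroup G) : Set G) →
      (orderOf b).Coprime p → b ∈ Subgroup.center G) : AllPron p G := by
  intro K hK
  obtain ⟨P, hP⟩ := (exists_sylow_le_iff K).mpr hK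
  refine pron_of_normalizer_le hP fun n hn => ?_
  obtain ⟨a, ha, b, hb, rfl, hak, hbo⟩ := exists_pp'_decomp (p := p) n
  have hle := (Subgroup.zpowers_le.mpr hn)
  refine mul_mem (Subgroup.le_normalizer (hP (mem_sylow_of_normalizes P (hle ha) hak))) ?_
  rw [← cj_self_iff]
  ext y
  rw [mem_cj, mul_assoc, Subgroup.mem_center_iff.mp (h P b (hle hb) hbo) y, inv_mul_cancel_left]

/-- It is enough to look at one Sylow subgroup. -/
theorem pron_of_one_sylow_central {P₀ : Subgroup G} (hp : IsPGroup p P₀) (hi : ¬ p ∣ P₀.index)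
    (h : ∀ b : G, cj b P₀ = P₀ → (orderOf b).Coprime p → b ∈ Subgroup.center G) : AllPron p G := by
  refine pron_of_sylow_central fun P b hb hbo => ?_
  obtain ⟨g, hg⟩ := MulAction.exists_smul_eq G (hp.toSylow hi) P
  have hP : (P : Subgroup G) = cj g P₀ := by rw [← hg]; rfl
  have hb' : cj (g⁻¹ * b * g) P₀ = P₀ := by
    rw [← cj_cj, ← hP, ← cj_cj, cj_self_iff.mpr hb, hP, cj_cj, inv_mul_cancel, cj_one]
  have ho : orderOf (g⁻¹ * b * g) = orderOf b := by
    simpa using (MulAut.conj g⁻¹).orderOf_eq b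
  have hc := h _ hb' (by rwa [ho])
  have : g * (g⁻¹ * b * g) = (g⁻¹ * b * g) * g := Subgroup.mem_center_iff.mp hc g
  rw [show b = g⁻¹ * b * g by
    calc b = (g * (g⁻¹ * b * g)) * g⁻¹ := by group
      _ = g⁻¹ * b * g := by rw [this, mul_inv_cancel_right]]
  exact hc

/-- A Bruhat decomposition with `N` normalising `T` makes every overgroup of `U` invariant under `T`. -/
theorem pron_of_bruhat (U : Sylow p G) (T : Subgroup G) (N : Set G)
    (hT : ∀ s ∈ T, ∀ t ∈ T, s * t = t * s)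
    (hTU : T ≤ Subgroup.normalizer ((U : Subgroup G) : Set G))
    (hN : ∀ n ∈ N, ∀ t ∈ T, n⁻¹ * t * n ∈ T)
    (hdec : ∀ g : G, ∃ u ∈ U, ∃ n ∈ N, ∃ v ∈ U, g = u * n * v)
    (hnorm : ∀ g ∈ Subgroup.normalizer ((U : Subgroup G) : Set G), ∃ u ∈ U, ∃ t ∈ T, g = u * t) :
    AllPron p G := by
  have key : ∀ K : Subgroup G, (U : Subgroup G) ≤ K → T ≤ Subgroup.normalizer (K : Set G) := by
    intro K hUK
    set X : Subgroup G := (U : Subgroup G) ⊔ ⨆ n : {n : G // n ∈ N ∧ n ∈ K}, cj n.1 U with hX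
    have hXK : X ≤ K := sup_le hUK (iSup_le fun n => cj_le_of_mem hUK n.2.2)
    have hXT : ∀ t ∈ T, cj t X ≤ X := by
      intro t ht
      have hU : cj t (U : Subgroup G) = U := cj_self_iff.mpr (hTU ht)
      rw [hX, show cj t ((U : Subgroup G) ⊔ ⨆ n : {n : G // n ∈ N ∧ n ∈ K}, cj n.1 U) =
        cj t (U : Subgroup G) ⊔ ⨆ n : {n : G // n ∈ N ∧ n ∈ K}, cj t (cj n.1 U) by
          simp only [cj, Subgroup.map_sup, Subgroup.map_iSup], hU]
      refine sup_le_sup_left (iSup_mono fun n => le_of_eq ?_) _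
      rw [cj_cj, show t * n.1 = n.1 * (n.1⁻¹ * t * n.1) by group, ← cj_cj n.1,
        cj_self_iff.mpr (hTU (hN _ n.2.1 t ht))]
    have hdecK : ∀ h ∈ K, ∃ x ∈ X, ∃ t ∈ T, t ∈ K ∧ h = x * t := by
      intro h hh
      obtain ⟨u, hu, n, hn, v, hv, he⟩ := hdec h
      have hnK : n ∈ K := by
        rw [show n = u⁻¹ * h * v⁻¹ by rw [he]; group]
        exact mul_mem (mul_mem (inv_mem (hUK hu)) hh) (inv_mem (hUK hv))
      have hcX : cj h (U : Subgroup G) ≤ X := by
        rw [he, ← cj_cj (u * n) v, cj_mem (K := (U : Subgroup G)) hv, ← cj_cj u n]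
        refine cj_le_of_mem ?_ (Subgroup.mem_sup_left hu)
        exact le_sup_of_le_right (le_iSup_of_le ⟨n, hn, hnK⟩ le_rfl)
      obtain ⟨x, hx, hxe⟩ := sylow_conj_in U h le_sup_left hcX
      have hn' : x⁻¹ * h ∈ Subgroup.normalizer ((U : Subgroup G) : Set G) :=
        cj_self_iff.mp (by rw [← cj_cj, ← hxe, cj_cj, inv_mul_cancel, cj_one])
      obtain ⟨u', hu', t, ht, he'⟩ := hnorm _ hn'
      refine ⟨x * u', mul_mem hx (Subgroup.mem_sup_left hu'), t, ht, ?_, ?_⟩
      · rw [show t = u'⁻¹ * (x⁻¹ * h) by rw [he']; group]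
        exact mul_mem (inv_mem (hUK hu')) (mul_mem (inv_mem (hXK hx)) hh)
      · rw [mul_assoc, ← he', mul_inv_cancel_left]
    have hle : ∀ s ∈ T, ∀ h ∈ K, s * h * s⁻¹ ∈ K := by
      intro s hs h hh
      obtain ⟨x, hx, t, ht, htK, rfl⟩ := hdecK h hh
      rw [show s * (x * t) * s⁻¹ = (s * x * s⁻¹) * (s * t * s⁻¹) by group, hT s hs t ht,
        mul_inv_cancel_right]
      exact mul_mem (hXK (hXT s hs ⟨x, hx, rfl⟩)) htK
    intro s hs
    rw [Subgroup.mem_normalizer_iff]
    refine fun h => ⟨hle s hs h, fun hh => ?_⟩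
    have := hle s⁻¹ (inv_mem hs) _ hh
    rwa [show s⁻¹ * (s * h * s⁻¹) * s⁻¹⁻¹ = h by group] at this
  intro K hK
  obtain ⟨P, hP⟩ := (exists_sylow_le_iff K).mpr hK
  obtain ⟨g, rfl⟩ := MulAction.exists_smul_eq G U P
  have hUK : (U : Subgroup G) ≤ cj g⁻¹ K := by
    have := cj_mono g⁻¹ (show cj g (U : Subgroup G) ≤ K from hP)
    rwa [cj_cj, inv_mul_cancel, cj_one] at this
  have hp' : Cfsg.IsPronormal (cj g⁻¹ K) := by
    refine pron_of_normalizer_le hUK fun n hn => ?_
    obtain ⟨u, hu, t, ht, rfl⟩ := hnorm n hn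
    exact mul_mem (Subgroup.le_normalizer (hUK hu)) (key _ hUK ht)
  have := pron_cj g hp'
  rwa [cj_cj, mul_inv_cancel, cj_one] at this

end Cfsg.Agent.PronormalOdd
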