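/-
Subgroups of odd index of `SL_2(q)`, `q` odd, are pronormal.

* `exists_odd_core` : the elements of odd order form a subgroup (Burnside, twice)
* `allPron_SL_two`
-/
import Cfsg.Agent.Lib.PronormalOdd.Crit
import Cfsg.Agent.Lib.GL2Odd.Derived
import Cfsg.Agent.Lib.GLOrder.Basic
import Cfsg.Agent.S2431

set_option autoImplicit false

namespace Cfsg.Agent.PronormalOdd

open Cfsg.Agent.S4270 Matrix
open scoped MatrixGroups

theorem eq_one_of_odd_of_pow {G : Type*} [Group G] {y : G} (hy : Odd (orderOf y)) {k : ℕ}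
    (h : y ^ 2 ^ k = 1) : y = 1 := by
  obtain ⟨j, -, hj⟩ := (Nat.dvd_prime_pow Nat.prime_two).mp (orderOf_dvd_of_pow_eq_one h)
  cases j with
  | zero => exact orderOf_eq_one_iff.mp (by simpa using hj)
  | succ j => rw [hj] at hy; exact absurd hy (by simp [Nat.pow_succ])

theorem odd_orderOf_of_mem {G : Type*} [Group G] {R : Subgroup G}
    (hR : Odd (Nat.card R)) {x : G} (hx : x ∈ R) : Odd (orderOf x) :=
  hR.of_dvd_nat (Subgroup.orderOf_dvd_natCard R hx)

/-- If the quotient by a central subgroup has a normal 2-complement through Burnside, the elements of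
odd order form a subgroup of odd order. -/
theorem exists_odd_core {K : Type*} [Group K] [Finite K] (Z : Subgroup K) [Z.Normal]
    (hZ : Z ≤ Subgroup.center K) [Fact (Nat.Prime 2)] (P : Sylow 2 (K ⧸ Z))
    (hP : Subgroup.normalizer ((P : Subgroup (K ⧸ Z)) : Set (K ⧸ Z)) ≤ Subgroup.centralizer ((P : Subgroup (K ⧸ Z)) : Set (K ⧸ Z))) :
    ∃ R : Subgroup K, Odd (Nat.card R) ∧ ∀ x : K, Odd (orderOf x) → x ∈ R := by
  set f := (MonoidHom.transferSylow P hP).comp (QuotientGroup.mk' Z) with hf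
  have hL : ∀ x : K, Odd (orderOf x) → x ∈ f.ker := by
    intro x hx
    obtain ⟨k, hk⟩ := P.isPGroup' (f x)
    exact MonoidHom.mem_ker.mpr (eq_one_of_odd_of_pow (hx.of_dvd_nat (orderOf_map_dvd f x)) hk)
  obtain ⟨Q⟩ : Nonempty (Sylow 2 f.ker) := inferInstance
  have hQ : ∀ y ∈ (Q : Subgroup f.ker), y ∈ Subgroup.center f.ker := by
    intro y hy
    have hyZ : ((y : K)) ∈ Z := by
      have h1 : QuotientGroup.mk' Z (y : K) ∈ (MonoidHom.transferSylow P hP).ker := y.2
      have hq : IsPGroup 2 (((Q : Subgroup f.ker).map f.ker.subtype).map (QuotientGroup.mk' Z)) :=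
        (Q.isPGroup'.map _).map _
      have hd := MonoidHom.ker_transferSylow_disjoint P hP _ hq
      have : QuotientGroup.mk' Z (y : K) ∈ (⊥ : Subgroup (K ⧸ Z)) := by
        rw [← hd.eq_bot]
        exact ⟨h1, _, ⟨y, hy, rfl⟩, rfl⟩
      exact (QuotientGroup.eq_one_iff _).mp (Subgroup.mem_bot.mp this)
    exact Subgroup.mem_center_iff.mpr fun w =>
      Subtype.ext (Subgroup.mem_center_iff.mp (hZ hyZ) (w : K))
  have hQc : Subgroup.normalizer ((Q : Subgroup f.ker) : Set f.ker) ≤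
      Subgroup.centralizer ((Q : Subgroup f.ker) : Set f.ker) := fun n _ =>
    Subgroup.mem_centralizer_iff.mpr fun y hy => (Subgroup.mem_center_iff.mp (hQ y hy) n).symm
  refine ⟨(MonoidHom.transferSylow Q hQc).ker.map f.ker.subtype, ?_, fun x hx => ?_⟩
  · rw [Subgroup.card_map_of_injective f.ker.subtype_injective, ← Nat.not_even_iff_odd,
      even_iff_two_dvd]
    exact MonoidHom.not_dvd_card_ker_transferSylow Q hQc
  · refine ⟨⟨x, hL x hx⟩, ?_, rfl⟩
    obtain ⟨k, hk⟩ := Q.isPGroup' (MonoidHom.transferSylow Q hQc ⟨x, hL x hx⟩)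
    refine MonoidHom.mem_ker.mpr (eq_one_of_odd_of_pow ?_ hk)
    refine (Odd.of_dvd_nat ?_ (orderOf_map_dvd _ (⟨x, hL x hx⟩ : f.ker)))
    rwa [← Subgroup.orderOf_coe]

section SLTwo

variable {F : Type*} [Field F] [Finite F]

omit [Finite F] in
theorem neg_one_ne_one' (h2 : (2 : F) ≠ 0) : (-1 : SL(2, F)) ≠ 1 := fun h => by
  have h' := congrFun (congrFun (congrArg Subtype.val h) 0) 0
  simp at h'
  exact h2 (by linear_combination -h')

omit [Finite F] in
theorem conj_eq_or_inv (h2 : (2 : F) ≠ 0) {r s : SL(2, F)} (hr : r ∉ Subgroup.center SL(2, F))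
    (hs : s * s ∈ Subgroup.center SL(2, F)) (hc : Commute (s * r * s⁻¹) r) :
    s * r * s⁻¹ = r ∨ s * r * s⁻¹ = r⁻¹ := by
  obtain ⟨a, b, hab⟩ := PSL2.exists_lin_of_commute hr (congrArg Subtype.val hc.eq)
  have hss : s * (s * r * s⁻¹) * s⁻¹ = r := by
    rw [show s * (s * r * s⁻¹) * s⁻¹ = (s * s) * r * (s * s)⁻¹ by group,
      ← Subgroup.mem_center_iff.mp hs r, mul_inv_cancel_right]
  have hsc : (s : Matrix (Fin 2) (Fin 2) F) * (s⁻¹ : SL(2, F)).1 = 1 :=
    congrArg Subtype.val (mul_inv_cancel s)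
  have hlin : (s : Matrix (Fin 2) (Fin 2) F) * PSL2.lin r a b * (s⁻¹ : SL(2, F)).1 =
      a • (1 : Matrix (Fin 2) (Fin 2) F) + b • PSL2.lin r a b := by
    rw [← hab]
    conv_lhs => rw [hab, PSL2.lin]
    simp only [mul_add, add_mul, mul_smul_comm, smul_mul_assoc, mul_one, hsc]
    rfl
  have h1 : r.1 = a • (1 : Matrix (Fin 2) (Fin 2) F) + b • PSL2.lin r a b := by
    rw [← hlin, ← hab]
    exact (congrArg Subtype.val hss).symm
  have hcoef : (1 - b * b) • r.1 = (a + b * a) • (1 : Matrix (Fin 2) (Fin 2) F) := by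
    rw [sub_smul, one_smul, sub_eq_iff_eq_add]
    conv_lhs => rw [h1]
    simp only [PSL2.lin, smul_add, smul_smul, add_smul]
    abel
  have hb : b * b = 1 := by
    by_contra hb
    have hb' : (1 : F) - b * b ≠ 0 := sub_ne_zero.mpr (Ne.symm hb)
    refine hr ?_
    have hr' : r.1 = ((1 - b * b)⁻¹ * (a + b * a)) • (1 : Matrix (Fin 2) (Fin 2) F) := by
      rw [← smul_smul, ← hcoef, smul_smul, inv_mul_cancel₀ hb', one_smul]
    rw [Subgroup.mem_center_iff]
    intro y
    apply Subtype.ext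
    show y.1 * r.1 = r.1 * y.1
    rw [hr', mul_smul_comm, smul_mul_assoc, mul_one, one_mul]
  have htr := PSL2.tr_conj r s
  rw [PSL2.tr_eq_trace, hab, PSL2.lin, Matrix.trace_add, Matrix.trace_smul, Matrix.trace_smul,
    Matrix.trace_one, Fintype.card_fin, ← PSL2.tr_eq_trace, smul_eq_mul, smul_eq_mul] at htr
  push_cast at htr
  rcases mul_self_eq_one_iff.mp hb with rfl | rfl
  · left
    have ha : a = 0 := (mul_eq_zero.mp (by linear_combination htr : (2 : F) * a = 0)).resolve_left h2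
    exact Subtype.ext (by rw [hab, ha, PSL2.lin, zero_smul, zero_add, one_smul])
  · right
    have ha : a = PSL2.tr r := sub_eq_zero.mp
      ((mul_eq_zero.mp (by linear_combination htr : (2 : F) * (a - PSL2.tr r) = 0)).resolve_left h2)
    refine Subtype.ext ?_
    rw [hab, ha, S2431.inv_coe, PSL2.lin, neg_one_smul, sub_eq_add_neg]

/-- An element of order `p` commuting with a square root of `-1` is trivial. -/
theorem eq_one_of_pow_char (p : ℕ) [Fact p.Prime] [CharP F p] (h2 : (2 : F) ≠ 0) (hp : Odd p)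
    {u i : SL(2, F)} (hi : i * i = -1) (hu : u ^ p = 1) (hc : Commute u i) : u = 1 := by
  have hic : i ∉ Subgroup.center SL(2, F) := by
    intro h
    rcases PSL2.mem_center_iff'.mp h with rfl | rfl
    · exact neg_one_ne_one' h2 (by simpa using hi.symm)
    · exact neg_one_ne_one' h2 (by simpa using hi.symm)
  obtain ⟨a, b, hab⟩ := PSL2.exists_lin_of_commute hic (congrArg Subtype.val hc.eq)
  obtain ⟨m, rfl⟩ := hp
  have hII : i.1 * i.1 = -1 := congrArg Subtype.val hi
  have hip : i.1 ^ (2 * m + 1) = ((-1 : F) ^ m) • i.1 := by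
    rw [pow_succ, pow_mul, pow_two, hII]
    rcases Nat.even_or_odd m with hm | hm
    · rw [hm.neg_one_pow, hm.neg_one_pow, one_mul, one_smul]
    · rw [hm.neg_one_pow, hm.neg_one_pow, neg_one_mul, neg_one_smul]
  haveI : CharP (Matrix (Fin 2) (Fin 2) F) (2 * m + 1) := Matrix.charP _
  have hpow : u.1 ^ (2 * m + 1) = 1 := congrArg Subtype.val hu
  rw [hab, PSL2.lin, add_pow_char_of_commute (p := 2 * m + 1) (h := ((Commute.one_left i.1).smul_left a).smul_right b),
    smul_pow, smul_pow, one_pow, hip, smul_smul] at hpow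
  have hb : b = 0 := by
    by_contra hb
    refine hic ?_
    set c := b ^ (2 * m + 1) * (-1 : F) ^ m with hc'
    have hc0 : c ≠ 0 := mul_ne_zero (pow_ne_zero _ hb) (pow_ne_zero _ (neg_ne_zero.mpr one_ne_zero))
    have hi' : i.1 = (c⁻¹ * (1 - a ^ (2 * m + 1))) • (1 : Matrix (Fin 2) (Fin 2) F) := by
      rw [← smul_smul, sub_smul, one_smul]
      nth_rw 1 [← hpow]
      rw [add_sub_cancel_left, smul_smul, inv_mul_cancel₀ hc0, one_smul]
    rw [Subgroup.mem_center_iff]
    intro y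
    apply Subtype.ext
    show y.1 * i.1 = i.1 * y.1
    rw [hi', mul_smul_comm, smul_mul_assoc, mul_one, one_mul]
  subst hb
  rw [zero_pow (by omega), zero_mul, zero_smul, add_zero] at hpow
  have ha : a ^ (2 * m + 1) = 1 := by simpa using congrFun (congrFun hpow 0) 0
  have ha1 : a = 1 := frobenius_inj F (2 * m + 1) (by simp [frobenius_def, ha])
  exact Subtype.ext (by rw [hab, PSL2.lin, ha1, zero_smul, add_zero, one_smul]; rfl)

theorem card_sylow_of_eq_eight (hq : Nat.card F % 8 = 3 ∨ Nat.card F % 8 = 5) [Fact (Nat.Prime 2)]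
    (Q : Sylow 2 SL(2, F)) : Nat.card (Q : Subgroup SL(2, F)) = 8 := by
  obtain ⟨m, hm⟩ : ∃ m, Nat.card F = 2 * m + 1 := ⟨Nat.card F / 2, by omega⟩
  have hsq : (2 * m + 1) ^ 2 - 1 = 4 * (m * (m + 1)) := by
    have : (2 * m + 1) ^ 2 = 4 * (m * (m + 1)) + 1 := by ring
    omega
  obtain ⟨r, hr, hrodd⟩ : ∃ r, m * (m + 1) = 2 * r ∧ Odd r := by
    rcases (show m % 4 = 1 ∨ m % 4 = 2 by omega) with h | h
    · obtain ⟨j, rfl⟩ : ∃ j, m = 4 * j + 1 := ⟨m / 4, by omega⟩
      exact ⟨(4 * j + 1) * (2 * j + 1), by ring, Nat.odd_iff.2 (by simp [Nat.mul_mod, Nat.add_mod])⟩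
    · obtain ⟨j, rfl⟩ : ∃ j, m = 4 * j + 2 := ⟨m / 4, by omega⟩
      exact ⟨(2 * j + 1) * (4 * j + 3), by ring, Nat.odd_iff.2 (by simp [Nat.mul_mod, Nat.add_mod])⟩
  have hG : Nat.card SL(2, F) = 2 ^ 3 * ((2 * m + 1) * r) := by
    rw [GLOrder.card_SL_two, hm, hsq, hr]
    ring
  have hu : Odd ((2 * m + 1) * r) := (Nat.odd_iff.2 (by omega)).mul hrodd
  rw [Q.card_eq_multiplicity, hG, Nat.factorization_mul (by norm_num) (fun h0 => by simp [h0] at hu),
    Finsupp.add_apply, Nat.factorization_eq_zero_of_not_dvd (n := (2 * m + 1) * r) (by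
      rintro ⟨k, hk⟩; rw [hk, Nat.odd_iff] at hu; omega),
    Nat.Prime.factorization_pow Nat.prime_two, Finsupp.single_eq_same]
  norm_num

/-- The heart of the case `q ≡ ±3 (mod 8)`. -/
theorem cj_eq_of_odd_normalizing [Fact (Nat.Prime 2)] (p : ℕ) [Fact p.Prime] [CharP F p] (hp : p ≠ 2)
    (h2 : (2 : F) ≠ 0) (Q : Sylow 2 SL(2, F)) (hQ8 : Nat.card (Q : Subgroup SL(2, F)) = 8)
    {H : Subgroup SL(2, F)} (hQH : (Q : Subgroup SL(2, F)) ≤ H) {K : Subgroup SL(2, F)} (hHK : H ≤ K)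
    (hK : Subgroup.normalizer ((Q : Subgroup SL(2, F)) : Set SL(2, F)) ⊓ K ≤ (Q : Subgroup SL(2, F)))
    {b : SL(2, F)} (hb : b ∈ Subgroup.normalizer ((Q : Subgroup SL(2, F)) : Set SL(2, F)))
    (hbo : Odd (orderOf b)) (hbK : cj b H ≤ K) : cj b H = H := by
  classical
  set Z := Subgroup.center SL(2, F) with hZdef
  have hQK : (Q : Subgroup SL(2, F)) ≤ K := hQH.trans hHK
  obtain ⟨k, hk, ⟨e⟩⟩ := GLOrder.sylow_two_SL_two (F := F) (by
    rw [← Nat.not_even_iff_odd, even_iff_two_dvd]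
    intro h
    obtain ⟨n, hn⟩ := GLOrder.exists_card_eq_pow (F := F) p
    rw [hn.2] at h
    exact hp ((Nat.prime_dvd_prime_iff_eq Nat.prime_two Fact.out).mp (Nat.prime_two.dvd_of_dvd_pow h)).symm) Q
  haveI : NeZero (2 ^ k) := ⟨pow_ne_zero _ two_ne_zero⟩
  have hk1 : k = 1 := by
    have h := Nat.card_congr e.toEquiv
    rw [hQ8, Nat.card_eq_fintype_card, QuaternionGroup.card] at h
    rcases Nat.lt_or_ge k 2 with h' | h'
    · omega
    · have := Nat.pow_le_pow_right two_pos h'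
      omega
  subst hk1
  have hcZ : ∀ z ∈ Z, z = 1 ∨ z = -1 := fun z hz => PSL2.mem_center_iff'.mp hz
  -- squares of elements of `Q` are central
  have hsq : ∀ s ∈ (Q : Subgroup SL(2, F)), s * s ∈ Z := by
    intro s hs
    have hd : ∀ g : QuaternionGroup (2 ^ 1), orderOf g ∣ 4 := by
      intro g
      cases g with
      | a i =>
        rw [orderOf_dvd_iff_pow_eq_one]
        revert i
        decide
      | xa i => rw [QuaternionGroup.orderOf_xa]
    have h4 : s ^ 4 = 1 := by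
      have := orderOf_dvd_iff_pow_eq_one.mp (hd (e ⟨s, hs⟩))
      rw [← map_pow, map_eq_one_iff e e.injective] at this
      exact congrArg Subtype.val this
    refine PSL2.mem_center_of_mul_self h2 ?_
    calc s * s * (s * s) = s ^ 4 := by simp [pow_succ, mul_assoc]
      _ = 1 := h4
  -- `Q` is not commutative
  have hQnc : ∃ s ∈ (Q : Subgroup SL(2, F)), ∃ t ∈ (Q : Subgroup SL(2, F)), ¬ Commute s t := by
    refine ⟨_, (e.symm (QuaternionGroup.a 1)).2, _, (e.symm (QuaternionGroup.xa 0)).2, fun h => ?_⟩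
    have h' : e.symm (QuaternionGroup.a 1) * e.symm (QuaternionGroup.xa 0) =
        e.symm (QuaternionGroup.xa 0) * e.symm (QuaternionGroup.a 1) := Subtype.ext h.eq
    rw [← map_mul, ← map_mul, e.symm.injective.eq_iff, QuaternionGroup.a_mul_xa,
      QuaternionGroup.xa_mul_a] at h'
    exact absurd (QuaternionGroup.xa.inj h') (by decide)
  have hnegQ : (-1 : SL(2, F)) ∈ (Q : Subgroup SL(2, F)) := by
    obtain ⟨s, hs, t, ht, hst⟩ := hQnc
    rcases hcZ _ (hsq s hs) with h | h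
    · exact absurd (Subgroup.mem_center_iff.mp (PSL2.mem_center_of_mul_self h2 h) t).symm hst
    · exact h ▸ mul_mem hs hs
  have hZQ : Z ≤ (Q : Subgroup SL(2, F)) := fun z hz => by
    rcases hcZ z hz with rfl | rfl
    exacts [one_mem _, hnegQ]
  have hZK : Z ≤ K := hZQ.trans hQK
  -- the odd elements of `K` form a subgroup
  set Zk : Subgroup K := Z.subgroupOf K with hZk
  have hZkc : Zk ≤ Subgroup.center K := fun z hz => Subgroup.mem_center_iff.mpr fun w =>
    Subtype.ext (Subgroup.mem_center_iff.mp hz (w : SL(2, F)))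
  set QK : Sylow 2 K := Q.subtype hQK with hQKdef
  let P : Sylow 2 (K ⧸ Zk) := QK.mapSurjective (QuotientGroup.mk'_surjective Zk)
  have hPmem : ∀ y : K, QuotientGroup.mk' Zk y ∈ (P : Subgroup (K ⧸ Zk)) ↔ (y : SL(2, F)) ∈ (Q : Subgroup SL(2, F)) := by
    intro y
    show QuotientGroup.mk' Zk y ∈ ((QK : Subgroup K).map (QuotientGroup.mk' Zk)) ↔ _
    constructor
    · rintro ⟨x, hx, hxy⟩
      have hz : x⁻¹ * y ∈ Zk := QuotientGroup.eq.mp hxy
      rw [show (y : SL(2, F)) = (x : SL(2, F)) * ((x⁻¹ * y : K) : SL(2, F)) by simp]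
      exact mul_mem hx (hZQ hz)
    · exact fun hy => ⟨y, hy, rfl⟩
  have hPc : Subgroup.normalizer ((P : Subgroup (K ⧸ Zk)) : Set (K ⧸ Zk)) ≤
      Subgroup.centralizer ((P : Subgroup (K ⧸ Zk)) : Set (K ⧸ Zk)) := by
    intro x hx
    obtain ⟨x, rfl⟩ := QuotientGroup.mk'_surjective Zk x
    have hxN : (x : SL(2, F)) ∈ Subgroup.normalizer ((Q : Subgroup SL(2, F)) : Set SL(2, F)) := by
      refine Subgroup.mem_normalizer_fintype fun y hy => ?_
      have := (Subgroup.mem_normalizer_iff.mp hx (QuotientGroup.mk' Zk ⟨y, hQK hy⟩)).mp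
        ((hPmem _).mpr hy)
      rw [← map_inv, ← map_mul, ← map_mul, hPmem] at this
      exact this
    have hxQ : (x : SL(2, F)) ∈ (Q : Subgroup SL(2, F)) := hK ⟨hxN, x.2⟩
    rw [Subgroup.mem_centralizer_iff]
    intro w hw
    obtain ⟨y, rfl⟩ := QuotientGroup.mk'_surjective Zk w
    rw [SetLike.mem_coe, hPmem] at hw
    rw [← map_mul, ← map_mul]
    refine QuotientGroup.eq.mpr ?_
    show (((y * x)⁻¹ * (x * y) : K) : SL(2, F)) ∈ Z
    have h1 := hsq _ hxQ
    have h2' := hsq _ hw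
    have h3 := hsq _ (mul_mem hxQ hw)
    push_cast
    rw [show ((y : SL(2, F)) * x)⁻¹ * ((x : SL(2, F)) * y) =
      ((x : SL(2, F)) * x)⁻¹ * ((x : SL(2, F)) * ((y : SL(2, F)) * y)⁻¹ * ((x : SL(2, F)))⁻¹) *
        (((x : SL(2, F)) * y) * ((x : SL(2, F)) * y)) by group]
    exact mul_mem (mul_mem (inv_mem h1) ((inferInstance : Z.Normal).conj_mem _ (inv_mem h2') _)) h3
  obtain ⟨R₀, hR₀, hodd₀⟩ := exists_odd_core Zk hZkc P hPc
  set R : Subgroup SL(2, F) := R₀.map K.subtype with hRdef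
  have hR : Odd (Nat.card R) := by rwa [hRdef, Subgroup.card_map_of_injective K.subtype_injective]
  have hRK : R ≤ K := Subgroup.map_subtype_le _
  have hmemR : ∀ x ∈ K, Odd (orderOf x) → x ∈ R := fun x hx ho =>
    ⟨⟨x, hx⟩, hodd₀ _ (by rwa [← Subgroup.orderOf_coe]), rfl⟩
  have hnormR : ∀ s ∈ K, ∀ x ∈ R, s * x * s⁻¹ ∈ R := by
    intro s hs x hx
    refine hmemR _ (mul_mem (mul_mem hs (hRK hx)) (inv_mem hs)) ?_
    rw [← MulAut.conj_apply, MulEquiv.orderOf_eq]
    exact odd_orderOf_of_mem hR hx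
  have hncR : ∀ x ∈ R, x ≠ 1 → x ∉ Z := by
    intro x hx h1 hz
    refine h1 (eq_one_of_odd_of_pow (odd_orderOf_of_mem hR hx) (k := 1) ?_)
    rcases hcZ x hz with rfl | rfl <;> simp
  -- a non-central element of `Q` commuting with a given element of `R`
  have hcomm : ∀ r ∈ R, r ≠ 1 → (∀ s ∈ (Q : Subgroup SL(2, F)), Commute (s * r * s⁻¹) r) →
      ∃ i ∈ (Q : Subgroup SL(2, F)), i ∉ Z ∧ Commute r i := by
    intro r hr hr1 hall
    obtain ⟨s, hs, t, ht, hst⟩ := hQnc
    have hs' : s ∉ Z := fun h => hst (Subgroup.mem_center_iff.mp h t).symm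
    have ht' : t ∉ Z := fun h => hst (Subgroup.mem_center_iff.mp h s)
    have hst' : t⁻¹ * s ∉ Z := fun h => hst (by
      have := Subgroup.mem_center_iff.mp h t
      rw [mul_inv_cancel_left, mul_assoc] at this
      have h'' : t * s = s * t := by
        conv_lhs => rw [this, ← mul_assoc, ← mul_assoc, mul_inv_cancel, one_mul]
      exact h''.symm)
    rcases conj_eq_or_inv h2 (hncR r hr hr1) (hsq s hs) (hall s hs) with h | h
    · exact ⟨s, hs, hs', (mul_inv_eq_iff_eq_mul.mp h).symm⟩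
    rcases conj_eq_or_inv h2 (hncR r hr hr1) (hsq t ht) (hall t ht) with h' | h'
    · exact ⟨t, ht, ht', (mul_inv_eq_iff_eq_mul.mp h').symm⟩
    refine ⟨t⁻¹ * s, mul_mem (inv_mem ht) hs, hst', ?_⟩
    have h'' : t⁻¹ * s * r * (t⁻¹ * s)⁻¹ = r := by
      rw [show t⁻¹ * s * r * (t⁻¹ * s)⁻¹ = t⁻¹ * (s * r * s⁻¹) * t by group, h, ← h']
      group
    exact (mul_inv_eq_iff_eq_mul.mp h'').symm
  have hi2 : ∀ i ∈ (Q : Subgroup SL(2, F)), i ∉ Z → i * i = -1 := fun i hi hiZ =>
    (hcZ _ (hsq i hi)).resolve_left fun h => hiZ (PSL2.mem_center_of_mul_self h2 h)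
  -- `R` is abelian
  have hab : ∀ x ∈ R, ∀ y ∈ R, Commute x y := by
    by_cases hpR : p ∣ Nat.card R
    · exfalso
      obtain ⟨u, hu⟩ := exists_prime_orderOf_dvd_card' p hpR
      have hu' : (u : SL(2, F)) ^ p = 1 := by rw [← hu, ← Subgroup.orderOf_coe, pow_orderOf_eq_one]
      have hu1 : (u : SL(2, F)) ≠ 1 := fun h => by
        rw [← Subgroup.orderOf_coe, h, orderOf_one] at hu
        exact (Fact.out : p.Prime).one_lt.ne hu
      obtain ⟨i, hi, hiZ, hc⟩ := hcomm u u.2 hu1 fun s hs => by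
        have hm := hnormR s (hQK hs) u u.2
        have hpow : (⟨_, hm⟩ : R) ^ p = 1 := Subtype.ext (by
          show (s * (u : SL(2, F)) * s⁻¹) ^ p = 1
          rw [conj_pow, hu', mul_one, mul_inv_cancel])
        exact congrArg Subtype.val (GL2Odd.commute_of_orderOf_eq p hp hR hpow (Subtype.ext hu')).eq
      refine hu1 (eq_one_of_pow_char p h2 ?_ (hi2 i hi hiZ) hu' hc)
      exact (Fact.out : p.Prime).odd_of_ne_two hp
    · intro x hx y hy
      have h := GL2Odd.commute_of_not_dvd p hp (R.map Matrix.SpecialLinearGroup.toGL)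
        (by rwa [Subgroup.card_map_of_injective Matrix.SpecialLinearGroup.toGL_injective])
        (by rwa [Subgroup.card_map_of_injective Matrix.SpecialLinearGroup.toGL_injective])
        ⟨x, hx, rfl⟩ ⟨y, hy, rfl⟩
      rw [← map_mul, ← map_mul] at h
      exact Matrix.SpecialLinearGroup.toGL_injective h
  -- `b` centralises the odd part of `H`
  have hcent : ∀ x ∈ R, x ∈ H → b * x * b⁻¹ = x := by
    intro r hr hrH
    by_cases hr1 : r = 1
    · subst hr1; simp
    have hrZ := hncR r hr hr1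
    obtain ⟨i, hi, hiZ, hci⟩ := hcomm r hr hr1 fun s hs => hab _ (hnormR s (hQK hs) r hr) r hr
    have hr' : b * r * b⁻¹ ∈ R := hmemR _ (hbK ⟨r, hrH, rfl⟩) (by
      rw [← MulAut.conj_apply, MulEquiv.orderOf_eq]
      exact odd_orderOf_of_mem hR hr)
    have hr'Z : b * r * b⁻¹ ∉ Z := fun h => hrZ (by
      have := (inferInstance : Z.Normal).conj_mem _ h b⁻¹
      rwa [show b⁻¹ * (b * r * b⁻¹) * b⁻¹⁻¹ = r by group] at this)
    have h1 : Commute i (b * r * b⁻¹) := PSL2.commute_of_commute hrZ hci.symm (hab _ hr' r hr)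
    have h3 : Commute (b * i * b⁻¹) (b * r * b⁻¹) := by
      show _ = _
      rw [show b * i * b⁻¹ * (b * r * b⁻¹) = b * (i * r) * b⁻¹ by group, hci.symm.eq]
      group
    have h4 : Commute i (b * i * b⁻¹) := PSL2.commute_of_commute hr'Z h1 h3
    have hii : i * i ∈ Z := hsq i hi
    have hbi : Commute b i := by
      obtain ⟨a, c, hac⟩ := PSL2.exists_lin_of_commute hiZ (congrArg Subtype.val h4.symm.eq)
      have htri : PSL2.tr i = 0 := by
        have h := PSL2.coe_sq i
        rw [show i.1 * i.1 = -1 from congrArg Subtype.val (hi2 i hi hiZ)] at h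
        have h' : PSL2.tr i • i.1 = 0 := by
          rw [eq_sub_iff_add_eq, neg_add_cancel] at h
          exact h.symm
        refine (smul_eq_zero.mp h').resolve_right fun h0 => ?_
        have hd := i.2
        rw [h0, Matrix.det_zero] at hd
        exact zero_ne_one hd
      have htr := PSL2.tr_conj i b
      rw [PSL2.tr_eq_trace, hac, PSL2.lin, Matrix.trace_add, Matrix.trace_smul, Matrix.trace_smul,
        Matrix.trace_one, Fintype.card_fin, ← PSL2.tr_eq_trace, htri, smul_zero, add_zero,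
        smul_eq_mul] at htr
      have ha : a = 0 := (mul_eq_zero.mp htr).resolve_right (by exact_mod_cast h2)
      subst ha
      have hdet : c * c = 1 := by
        have h := (b * i * b⁻¹).2
        rw [hac, PSL2.det_lin, htri] at h
        linear_combination h
      rcases mul_self_eq_one_iff.mp hdet with rfl | rfl
      · refine mul_inv_eq_iff_eq_mul.mp (Subtype.ext ?_)
        rw [hac, PSL2.lin, zero_smul, zero_add, one_smul]
      · have hneg : b * i * b⁻¹ = -i := Subtype.ext (by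
          rw [hac, PSL2.lin, zero_smul, zero_add, neg_one_smul]; rfl)
        have hb2 : Commute (b ^ 2) i := by
          refine mul_inv_eq_iff_eq_mul.mp ?_
          rw [pow_two, show b * b * i * (b * b)⁻¹ = b * (b * i * b⁻¹) * b⁻¹ by group, hneg, mul_neg, neg_mul,
            hneg, neg_neg]
        obtain ⟨m, hm⟩ := hbo
        have hb' : b = (b ^ 2) ^ (m + 1) := by
          rw [← pow_mul, show 2 * (m + 1) = orderOf b + 1 by omega, pow_succ, pow_orderOf_eq_one, one_mul]
        rw [hb']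
        exact hb2.pow_left _
    rw [mul_inv_eq_iff_eq_mul]
    exact (PSL2.commute_of_commute hiZ hbi hci).eq
  -- `H = Q (R ∩ H)`
  set M : Subgroup SL(2, F) := (Q : Subgroup SL(2, F)) ⊔ (R ⊓ H) with hM
  have hMH : M ≤ H := sup_le hQH inf_le_right
  have hHM : H ≤ M := by
    set N : Subgroup H := (R ⊓ H).subgroupOf H with hN
    haveI : N.Normal := ⟨fun x hx s => ⟨hnormR _ (hHK s.2) _ hx.1, (s * x * s⁻¹).2⟩⟩
    have hp2 : IsPGroup 2 (H ⧸ N) := by
      intro y
      obtain ⟨y, rfl⟩ := QuotientGroup.mk'_surjective N y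
      obtain ⟨a, ha, c, hc, rfl, ⟨j, hj⟩, hco⟩ := exists_pp'_decomp (p := 2) y
      refine ⟨j, ?_⟩
      have hcN : c ∈ N := ⟨hmemR _ (hHK c.2) (by
        rw [Subgroup.coe_subtype, Subgroup.orderOf_coe]; exact Nat.coprime_two_right.mp hco), c.2⟩
      rw [map_mul, show QuotientGroup.mk' N c = 1 from (QuotientGroup.eq_one_iff _).mpr hcN, mul_one,
        ← map_pow, hj, map_one]
    obtain ⟨j, hj⟩ := hp2.exists_card_eq
    set M' : Subgroup H := M.subgroupOf H with hM'
    have hNM : N ≤ M' := fun x hx => Subgroup.mem_sup_right hx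
    have hd : M'.index ∣ 2 ^ j := hj ▸ (Subgroup.index_dvd_of_le hNM)
    have hnd : ¬ 2 ∣ M'.index := fun h => by
      have h' : M.relIndex H ∣ (Q : Subgroup SL(2, F)).index :=
        (Subgroup.relIndex_dvd_of_le_left H (le_sup_left : (Q : Subgroup SL(2, F)) ≤ M)).trans
          (Subgroup.relIndex_dvd_index_of_le hQH)
      exact Q.not_dvd_index (h.trans h')
    obtain ⟨l, -, hl⟩ := (Nat.dvd_prime_pow Nat.prime_two).mp hd
    have hl0 : l = 0 := by
      by_contra h
      exact hnd (hl ▸ dvd_pow_self 2 h)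
    rw [hl0, pow_zero, Subgroup.index_eq_one, hM', Subgroup.subgroupOf_eq_top] at hl
    exact hl
  have hbM : cj b M ≤ M := by
    rw [hM, cj, Subgroup.map_sup]
    refine sup_le (le_sup_of_le_left (cj_self_iff.mpr hb).le) (le_sup_of_le_right ?_)
    rintro _ ⟨x, hx, rfl⟩
    show b * x * b⁻¹ ∈ _
    rw [hcent x hx.1 hx.2]
    exact hx
  rw [le_antisymm hHM hMH]
  exact Subgroup.eq_of_le_of_card_ge hbM (Subgroup.card_map_of_injective (MulAut.conj b).injective).ge

/-- Every subgroup of odd index of `SL_2(q)`, `q` odd, is pronormal. -/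
theorem allPron_SL_two (hodd : Odd (Nat.card F)) : AllPron 2 SL(2, F) := by
  haveI : Fact (Nat.Prime 2) := ⟨Nat.prime_two⟩
  haveI := Fintype.ofFinite F
  obtain ⟨p, hchar⟩ := CharP.exists F
  haveI : Fact p.Prime := ⟨CharP.char_is_prime F p⟩
  have h2 : (2 : F) ≠ 0 := by
    obtain ⟨m, hm⟩ := hodd
    exact PSL2.two_ne_zero_of_dvd ⟨m, by omega⟩
  have hp : p ≠ 2 := by
    rintro rfl
    exact h2 (by exact_mod_cast CharP.cast_eq_zero F 2)
  have hN := fun P : Sylow 2 SL(2, F) => (S2431.result (by rwa [← Nat.card_eq_fintype_card]) P).2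
  simp only [← Nat.card_eq_fintype_card (α := F)] at hN
  intro H hH
  obtain ⟨Q, hQ⟩ := (exists_sylow_le_iff H).mpr hH
  by_cases h8 : Nat.card F % 8 = 1 ∨ Nat.card F % 8 = 7
  · exact pron_of_normalizer_le hQ (((hN Q).1 h8).le.trans (hQ.trans Subgroup.le_normalizer))
  have h8' : Nat.card F % 8 = 3 ∨ Nat.card F % 8 = 5 := by
    obtain ⟨m, hm⟩ := hodd
    omega
  refine pron_of_normalizer hQ fun n hn => ?_
  set K := H ⊔ cj n H with hKdef
  set N := Subgroup.normalizer ((Q : Subgroup SL(2, F)) : Set SL(2, F)) with hNdef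
  by_cases hK : N ⊓ K ≤ (Q : Subgroup SL(2, F))
  · obtain ⟨a, ha, b, hb, rfl, hak, hbo⟩ := exists_pp'_decomp (p := 2) n
    have hle := Subgroup.zpowers_le.mpr hn
    have haH : a ∈ H := hQ (mem_sylow_of_normalizes Q (hle ha) hak)
    refine ⟨1, one_mem _, ?_⟩
    have hbK : cj b H ≤ K := by
      have h1 := cj_le_of_mem (g := a⁻¹) (le_sup_right : cj (a * b) H ≤ K)
        (Subgroup.mem_sup_left (inv_mem haH))
      rwa [cj_cj, inv_mul_cancel_left] at h1
    rw [cj_one, ← cj_cj, cj_eq_of_odd_normalizing p hp h2 Q (card_sylow_of_eq_eight h8' Q) hQ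
      le_sup_left hK (hle hb) (Nat.coprime_two_right.mp hbo) hbK, cj_mem haH]
  · refine ⟨n, ?_, rfl⟩
    obtain ⟨y, hy, hyQ⟩ := SetLike.not_le_iff_exists.mp hK
    have hcard : Nat.card N = 3 * Nat.card (Q : Subgroup SL(2, F)) := (hN Q).2 h8'
    set M := N ⊓ K
    have hQM : (Q : Subgroup SL(2, F)) < M := lt_of_le_of_ne
      (le_inf Subgroup.le_normalizer (hQ.trans le_sup_left)) fun h => hyQ (h ▸ hy)
    have hrel : M.relIndex N * (Q : Subgroup SL(2, F)).relIndex M = 3 := by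
      rw [mul_comm, Subgroup.relIndex_mul_relIndex _ _ _ hQM.le inf_le_left]
      have := Subgroup.card_mul_index ((Q : Subgroup SL(2, F)).subgroupOf N)
      rw [Nat.card_congr (Subgroup.subgroupOfEquivOfLe Subgroup.le_normalizer).toEquiv, hcard,
        mul_comm 3] at this
      exact Nat.eq_of_mul_eq_mul_left Nat.card_pos this
    have h1 : (Q : Subgroup SL(2, F)).relIndex M ≠ 1 := fun h =>
      hQM.ne (le_antisymm hQM.le (Subgroup.relIndex_eq_one.mp h))
    have h3 : M.relIndex N = 1 := by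
      rcases (Nat.dvd_prime Nat.prime_three).mp ⟨_, hrel.symm⟩ with h | h
      · exact h
      · rw [h] at hrel; omega
    exact (Subgroup.relIndex_eq_one.mp h3 hn).2

end SLTwo

end Cfsg.Agent.PronormalOdd
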