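/-
Characteristic two: subgroups of odd index of the group of fixed points of an involutory automorphism
of `SL_n(q)` preserving the upper and lower unitriangular groups and the monomial elements.

* `exists_normalForm`, `normalForm_unique` : the refined Bruhat decomposition of `SL_n(q)`
* `allPron_fixed`
-/
import Cfsg.Agent.Lib.PronormalOdd.Crit
import Cfsg.Agent.Lib.SLFusion.Basic
import Cfsg.Agent.Lib.GLFlag.Bruhat

set_option autoImplicit false

namespace Cfsg.Agent.PronormalOdd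

open Matrix Cfsg.Agent.S4270
open Cfsg.Agent.SLFusion (slU slB mem_slU mem_slB)

variable {n : ℕ} {F : Type*} [Field F] [Finite F]

local notation "SLn" => Matrix.SpecialLinearGroup (Fin n) F

/-- Monomial with permutation `π`. -/
def IsMon (g : SLn) (π : Equiv.Perm (Fin n)) : Prop := ∀ i j, i ≠ π j → g.1 i j = 0

/-- The monomial elements. -/
def Mon (n : ℕ) (F : Type*) [Field F] : Set (Matrix.SpecialLinearGroup (Fin n) F) :=
  {g | ∃ π, IsMon g π}

omit [Finite F] in
theorem IsMon.ne_zero {g : SLn} {π : Equiv.Perm (Fin n)} (h : IsMon g π) (j : Fin n) :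
    g.1 (π j) j ≠ 0 := fun h0 => by
  have := Matrix.det_eq_zero_of_column_eq_zero (A := g.1) j fun i => by
    rcases eq_or_ne i (π j) with rfl | hi
    exacts [h0, h i j hi]
  rw [g.2] at this
  exact one_ne_zero this

omit [Finite F] in
theorem mul_mon_apply {g : SLn} {π : Equiv.Perm (Fin n)} (h : IsMon g π)
    (A : Matrix (Fin n) (Fin n) F) (i j : Fin n) : (A * g.1) i j = A i (π j) * g.1 (π j) j := by
  rw [Matrix.mul_apply, Fintype.sum_eq_single (π j)]
  exact fun k hk => by rw [h k j hk, mul_zero]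

omit [Finite F] in
theorem mon_mul_apply {g : SLn} {π : Equiv.Perm (Fin n)} (h : IsMon g π)
    (A : Matrix (Fin n) (Fin n) F) (i j : Fin n) : (g.1 * A) i j = g.1 i (π⁻¹ i) * A (π⁻¹ i) j := by
  rw [Matrix.mul_apply, Fintype.sum_eq_single (π⁻¹ i)]
  intro k hk
  rw [h i k (fun e => hk (by rw [e]; simp)), zero_mul]

omit [Finite F] in
/-- Conjugation by a monomial element moves the entries. -/
theorem mon_conj {g : SLn} {π : Equiv.Perm (Fin n)} (h : IsMon g π) (x : SLn) (i j : Fin n) :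
    (g * x * g⁻¹).1 (π i) (π j) * g.1 (π j) j = g.1 (π i) i * x.1 i j := by
  have e : (g * x * g⁻¹).1 * g.1 = g.1 * x.1 := by
    rw [← Matrix.SpecialLinearGroup.coe_mul, inv_mul_cancel_right]
    rfl
  have := congrFun (congrFun e (π i)) j
  rw [mul_mon_apply h, mon_mul_apply h] at this
  simpa using this

omit [Finite F] in
theorem IsMon.mul {g g' : SLn} {π π' : Equiv.Perm (Fin n)} (h : IsMon g π) (h' : IsMon g' π') :
    IsMon (g * g') (π * π') := fun i j hij => by
  rw [Matrix.SpecialLinearGroup.coe_mul, mul_mon_apply h', h i (π' j) hij, zero_mul]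

omit [Finite F] in
theorem IsMon.inv {g : SLn} {π : Equiv.Perm (Fin n)} (h : IsMon g π) : IsMon g⁻¹ π⁻¹ := by
  intro i k hik
  have e : (g⁻¹ : SLn).1 * g.1 = 1 := congrArg Subtype.val (inv_mul_cancel g)
  have := congrFun (congrFun e i) (π⁻¹ k)
  rw [mul_mon_apply h, Matrix.one_apply_ne hik, show π (π⁻¹ k) = k by simp] at this
  refine (mul_eq_zero.mp this).resolve_right ?_
  simpa using h.ne_zero (π⁻¹ k)

theorem eq_one_of_le {τ : Equiv.Perm (Fin n)} (h : ∀ j, τ j ≤ j) : τ = 1 := by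
  refine Equiv.ext fun j => ?_
  induction hj : j.val using Nat.strong_induction_on generalizing j with
  | _ m ih =>
    rcases (h j).lt_or_eq with h' | h'
    · exact absurd (τ.injective (ih (τ j).val (hj ▸ h') (τ j) rfl)) h'.ne
    · exact h'

theorem exists_inversion {π : Equiv.Perm (Fin n)} (h : π ≠ 1) : ∃ i j, i < j ∧ π j < π i := by
  by_contra hne
  push Not at hne
  have hs : StrictMono π := fun i j hij =>
    lt_of_le_of_ne (hne i j hij) fun e => hij.ne (π.injective e)
  refine h (eq_one_of_le fun j => ?_)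
  have hs' : StrictMono (π⁻¹ : Equiv.Perm (Fin n)) := fun a b hab => by
    rcases lt_trichotomy (π⁻¹ a) (π⁻¹ b) with h' | h' | h'
    · exact h'
    · exact absurd ((π⁻¹).injective h') hab.ne
    · have := hs h'
      simp at this
      exact absurd hab this.not_gt
  have := hs.monotone (hs'.le_apply (x := j))
  simpa using this

/-- The lower unitriangular subgroup. -/
def slL (n : ℕ) (F : Type*) [Field F] [Finite F] : Subgroup (Matrix.SpecialLinearGroup (Fin n) F) :=
  Linear.subgroupOfSubmonoidFinite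
    { carrier := {g | Linear.IsUpperUni g.1ᵀ}
      one_mem' := by
        show Linear.IsUpperUni (1 : Matrix (Fin n) (Fin n) F)ᵀ
        rw [Matrix.transpose_one]
        exact Linear.isUpperUni_one
      mul_mem' := fun {a b} ha hb => by
        show Linear.IsUpperUni (a * b).1ᵀ
        rw [Matrix.SpecialLinearGroup.coe_mul, Matrix.transpose_mul]
        exact Linear.IsUpperUni.mul hb ha }

theorem mem_slL {g : SLn} : g ∈ slL n F ↔ ∀ i j, i ≤ j → g.1 i j = if i = j then 1 else 0 :=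
  ⟨fun h i j hij => (h j i hij).trans (by simp [eq_comm]),
    fun h i j hij => (h j i hij).trans (by simp [eq_comm])⟩

theorem eq_one_of_upper_lower {g : SLn} (hU : g ∈ slU n F) (hL : g ∈ slL n F) : g = 1 := by
  refine Subtype.ext (Matrix.ext fun i j => ?_)
  rw [Matrix.SpecialLinearGroup.coe_one, Matrix.one_apply]
  rcases le_total j i with h | h
  exacts [mem_slU.mp hU i j h, mem_slL.mp hL i j h]

/-- Entries off `S` are those of the identity. -/
def Uni (S : Fin n → Fin n → Prop) (g : SLn) : Prop :=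
  ∀ i j, ¬ S i j → g.1 i j = if i = j then 1 else 0

omit [Finite F] in
theorem det_one_add (S : Fin n → Fin n → Prop) (hS : (∀ i j, S i j → i < j) ∨ ∀ i j, S i j → j < i)
    (A : Matrix (Fin n) (Fin n) F) (hA : ∀ i j, ¬ S i j → A i j = if i = j then 1 else 0) :
    A.det = 1 := by
  have hd : ∀ i, A i i = 1 := fun i => by
    rw [hA i i (fun h => hS.elim (fun h' => (h' i i h).false) fun h' => (h' i i h).false), if_pos rfl]
  rcases hS with hS | hS
  · rw [Matrix.det_of_upperTriangular fun i j (hij : j < i) => by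
      rw [hA i j (fun h => lt_asymm hij (hS i j h)), if_neg hij.ne']]
    exact Finset.prod_eq_one fun i _ => hd i
  · rw [← Matrix.det_transpose, Matrix.det_of_upperTriangular fun i j (hij : j < i) => by
      rw [Matrix.transpose_apply, hA j i (fun h => lt_asymm hij (hS j i h)), if_neg hij.ne]]
    exact Finset.prod_eq_one fun i _ => hd i

theorem card_uni (S : Fin n → Fin n → Prop) (hS : (∀ i j, S i j → i < j) ∨ ∀ i j, S i j → j < i) :
    Nat.card {g : SLn // Uni S g} = Nat.card F ^ Nat.card {p : Fin n × Fin n // S p.1 p.2} := by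
  classical
  rw [← Nat.card_fun]
  have hne : ∀ i j, S i j → i ≠ j := fun i j h => hS.elim (fun h' => (h' i j h).ne) fun h' => (h' i j h).ne'
  refine Nat.card_congr
    { toFun := fun g p => g.1.1 p.1.1 p.1.2
      invFun := fun f =>
        ⟨⟨Matrix.of fun i j => if h : S i j then f ⟨(i, j), h⟩ else if i = j then 1 else 0,
          det_one_add S hS _ fun i j h => by rw [Matrix.of_apply, dif_neg h]⟩,
          fun i j h => by
            show (Matrix.of _ : Matrix (Fin n) (Fin n) F) i j = _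
            rw [Matrix.of_apply, dif_neg h]⟩
      left_inv := fun g => Subtype.ext (Subtype.ext (Matrix.ext fun i j => by
        show (Matrix.of _ : Matrix (Fin n) (Fin n) F) i j = _
        rw [Matrix.of_apply]
        split_ifs with h h'
        · rfl
        · rw [g.2 i j h, if_pos h']
        · rw [g.2 i j h, if_neg h']))
      right_inv := fun f => funext fun p => by
        show (Matrix.of _ : Matrix (Fin n) (Fin n) F) p.1.1 p.1.2 = _
        rw [Matrix.of_apply, dif_pos p.2] }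

/-- `m U m⁻¹ = (m U m⁻¹ ∩ U) (m U m⁻¹ ∩ U⁻)`. -/
theorem exists_split {m : SLn} {π : Equiv.Perm (Fin n)} (hm : IsMon m π) {u : SLn} (hu : u ∈ slU n F) :
    ∃ u₁ ∈ slU n F, m * u₁ * m⁻¹ ∈ slU n F ∧ ∃ v ∈ slU n F, m * v * m⁻¹ ∈ slL n F ∧ u = u₁ * v := by
  classical
  set S : Fin n → Fin n → Prop := fun a b => π⁻¹ a < π⁻¹ b with hS
  set P : Subgroup SLn := cj m (slU n F) with hP
  have hmem : ∀ g : SLn, Uni S g → g ∈ P := by
    intro g hg
    refine mem_cj.mpr (mem_slU.mpr fun i j hji => ?_)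
    have h := mon_conj hm (m⁻¹ * g * m) i j
    rw [show m * (m⁻¹ * g * m) * m⁻¹ = g by group,
      hg (π i) (π j) (by simp [S, hji.not_gt])] at h
    rcases eq_or_ne i j with rfl | hij
    · rw [if_pos rfl, one_mul] at h
      rw [if_pos rfl]
      exact (mul_eq_left₀ (hm.ne_zero i)).mp h.symm
    · rw [if_neg (π.injective.ne hij), zero_mul] at h
      rw [if_neg hij]
      exact (mul_eq_zero.mp h.symm).resolve_left (hm.ne_zero i)
  let A : Fin n → Fin n → Prop := fun a b => a < b ∧ S a b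
  let C : Fin n → Fin n → Prop := fun a b => b < a ∧ S a b
  have hA : ∀ g : SLn, Uni A g → g ∈ slU n F ∧ g ∈ P := fun g hg =>
    ⟨mem_slU.mpr fun i j hji => hg i j fun h => h.1.not_ge hji, hmem g fun i j h => hg i j fun h' => h h'.2⟩
  have hC : ∀ g : SLn, Uni C g → g ∈ slL n F ∧ g ∈ P := fun g hg =>
    ⟨mem_slL.mpr fun i j hij => hg i j fun h => h.1.not_ge hij, hmem g fun i j h => hg i j fun h' => h h'.2⟩
  let Ψ : {g : SLn // Uni A g} × {g : SLn // Uni C g} → P := fun p =>
    ⟨p.1.1 * p.2.1, mul_mem (hA _ p.1.2).2 (hC _ p.2.2).2⟩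
  have hinj : Function.Injective Ψ := by
    rintro ⟨a, c⟩ ⟨a', c'⟩ h
    have h' : a.1 * c.1 = a'.1 * c'.1 := congrArg Subtype.val h
    have h1 : a'.1⁻¹ * a.1 = c'.1 * c.1⁻¹ := by
      rw [eq_mul_inv_iff_mul_eq, mul_assoc, h', inv_mul_cancel_left]
    have h2 := eq_one_of_upper_lower (mul_mem (inv_mem (hA _ a'.2).1) (hA _ a.2).1)
      (h1 ▸ mul_mem (hC _ c'.2).1 (inv_mem (hC _ c.2).1))
    have ha : a = a' := Subtype.ext (inv_mul_eq_one.mp h2).symm
    subst ha
    exact Prod.ext rfl (Subtype.ext (mul_left_cancel h'))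
  have hcard : Nat.card P ≤ Nat.card ({g : SLn // Uni A g} × {g : SLn // Uni C g}) := by
    rw [Nat.card_prod, card_uni A (Or.inl fun i j h => h.1), card_uni C (Or.inr fun i j h => h.1),
      ← pow_add, ← Nat.card_sum]
    have hU : Nat.card (slU n F) = Nat.card {g : SLn // Uni (fun i j => i < j) g} :=
      Nat.card_congr (Equiv.subtypeEquivRight fun g =>
        ⟨fun h i j hij => mem_slU.mp h i j (not_lt.mp hij), fun h => mem_slU.mpr fun i j hji => h i j hji.not_gt⟩)
    rw [hP, Subgroup.card_map_of_injective (MulAut.conj m).injective, hU,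
      card_uni _ (Or.inl fun i j h => h)]
    refine le_of_eq (congrArg _ (Nat.card_congr ?_))
    refine (Equiv.subtypeEquiv (q := fun p : Fin n × Fin n => S p.1 p.2) (Equiv.prodCongr π π)
      fun p => by simp [S]).trans ?_
    exact
      { toFun := fun p => if h : p.1.1 < p.1.2 then Sum.inl ⟨p.1, h, p.2⟩ else Sum.inr ⟨p.1,
          lt_of_le_of_ne (not_lt.mp h) (fun e => (show π⁻¹ p.1.1 < π⁻¹ p.1.2 from p.2).ne (by rw [e])), p.2⟩
        invFun := Sum.elim (fun p => ⟨p.1, p.2.2⟩) (fun p => ⟨p.1, p.2.2⟩)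
        left_inv := fun p => by dsimp; split_ifs <;> rfl
        right_inv := by
          rintro (p | p)
          · exact dif_pos p.2.1
          · exact dif_neg p.2.1.not_gt }
  have hx : m * u * m⁻¹ ∈ P := ⟨u, hu, rfl⟩
  obtain ⟨⟨a, c⟩, hac⟩ := (hinj.bijective_of_nat_card_le hcard).2 ⟨_, hx⟩
  have hac' : a.1 * c.1 = m * u * m⁻¹ := congrArg Subtype.val hac
  refine ⟨m⁻¹ * a.1 * m, mem_cj.mp (hA _ a.2).2, ?_, m⁻¹ * c.1 * m, mem_cj.mp (hC _ c.2).2, ?_, ?_⟩
  · rw [show m * (m⁻¹ * a.1 * m) * m⁻¹ = a.1 by group]; exact (hA _ a.2).1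
  · rw [show m * (m⁻¹ * c.1 * m) * m⁻¹ = c.1 by group]; exact (hC _ c.2).1
  · calc u = m⁻¹ * (m * u * m⁻¹) * m := by group
      _ = m⁻¹ * a.1 * m * (m⁻¹ * c.1 * m) := by rw [← hac']; group

omit [Finite F] in
theorem diag_mul_inv (d : Fin n → F) (hd : ∀ i, d i ≠ 0) :
    Matrix.diagonal (fun i => (d i)⁻¹) * Matrix.diagonal d = 1 := by
  rw [Matrix.diagonal_mul_diagonal, ← Matrix.diagonal_one]
  exact congrArg _ (funext fun i => inv_mul_cancel₀ (hd i))

omit [Finite F] in
theorem upper_diag_ne_zero (b : GL (Fin n) F) (hb : b ∈ Cfsg.upperTriangularGL n F) (i : Fin n) :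
    (b : Matrix (Fin n) (Fin n) F) i i ≠ 0 := fun h => by
  have h1 := Matrix.det_of_upperTriangular (M := (b : Matrix (Fin n) (Fin n) F)) hb
  have h0 := Finset.prod_eq_zero (f := fun i => (b : Matrix (Fin n) (Fin n) F) i i) (Finset.mem_univ i) h
  rw [h0] at h1
  exact (((Matrix.isUnit_iff_isUnit_det _).mp b.isUnit).ne_zero) h1

theorem exists_normalForm (g : SLn) :
    ∃ u ∈ slU n F, ∃ m ∈ Mon n F, ∃ v ∈ slU n F, m * v * m⁻¹ ∈ slL n F ∧ g = u * m * v := by
  obtain ⟨b, hb, w, b', hb', he⟩ := GLFlag.exists_bruhat (Matrix.SpecialLinearGroup.toGL g)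
  set B := (b : Matrix (Fin n) (Fin n) F) with hB
  set B' := (b' : Matrix (Fin n) (Fin n) F) with hB'
  have hdB := upper_diag_ne_zero b hb
  have hdB' := upper_diag_ne_zero b' hb'
  have hu0 : ∀ i j, ¬ i < j → (B * Matrix.diagonal fun i => (B i i)⁻¹) i j = if i = j then 1 else 0 := by
    intro i j hij
    rw [Matrix.mul_diagonal]
    rcases (not_lt.mp hij).lt_or_eq with h | h
    · rw [show B i j = 0 from hb h, zero_mul, if_neg h.ne']
    · subst h; rw [if_pos rfl, mul_inv_cancel₀ (hdB j)]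
  have hv0 : ∀ i j, ¬ i < j → ((Matrix.diagonal fun i => (B' i i)⁻¹) * B') i j = if i = j then 1 else 0 := by
    intro i j hij
    rw [Matrix.diagonal_mul]
    rcases (not_lt.mp hij).lt_or_eq with h | h
    · rw [show B' i j = 0 from hb' h, mul_zero, if_neg h.ne']
    · subst h; rw [if_pos rfl, inv_mul_cancel₀ (hdB' j)]
  let u : SLn := ⟨_, det_one_add _ (Or.inl fun _ _ h => h) _ hu0⟩
  let v₀ : SLn := ⟨_, det_one_add _ (Or.inl fun _ _ h => h) _ hv0⟩
  have hu : u ∈ slU n F := mem_slU.mpr fun i j h => hu0 i j h.not_gt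
  have hv : v₀ ∈ slU n F := mem_slU.mpr fun i j h => hv0 i j h.not_gt
  set m := u⁻¹ * g * v₀⁻¹ with hmdef
  have hg : g.1 = B * GLFlag.permMat F w * B' := by
    have := congrArg (fun x : GL (Fin n) F => (x : Matrix (Fin n) (Fin n) F)) he
    exact this
  have hm1 : m.1 = Matrix.diagonal (fun i => B i i) * GLFlag.permMat F w * Matrix.diagonal (fun i => B' i i) := by
    have e1 : u.1 * Matrix.diagonal (fun i => B i i) = B := by
      show B * _ * _ = B
      rw [Matrix.mul_assoc, diag_mul_inv _ hdB, Matrix.mul_one]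
    have e2 : Matrix.diagonal (fun i => B' i i) * v₀.1 = B' := by
      show _ * (_ * B') = B'
      rw [← Matrix.mul_assoc, Matrix.diagonal_mul_diagonal, show (fun i => B' i i * (B' i i)⁻¹) = fun _ => (1 : F)
        from funext fun i => mul_inv_cancel₀ (hdB' i), Matrix.diagonal_one, Matrix.one_mul]
    have e3 : (u⁻¹ : SLn).1 * u.1 = 1 := congrArg Subtype.val (inv_mul_cancel u)
    have e4 : v₀.1 * (v₀⁻¹ : SLn).1 = 1 := congrArg Subtype.val (mul_inv_cancel v₀)
    rw [hmdef, Matrix.SpecialLinearGroup.coe_mul, Matrix.SpecialLinearGroup.coe_mul, hg]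
    conv_lhs => rw [← e1, ← e2]
    simp only [Matrix.mul_assoc]
    rw [e4, Matrix.mul_one, ← Matrix.mul_assoc (u⁻¹ : SLn).1 u.1, e3, Matrix.one_mul]
  have hm : IsMon m w := fun i j hij => by
    rw [hm1, Matrix.mul_diagonal, Matrix.diagonal_mul, show GLFlag.permMat F w i j = 0 from if_neg hij,
      mul_zero, zero_mul]
  obtain ⟨u₁, -, hu₁', v, hv', hvL, he'⟩ := exists_split hm hv
  refine ⟨u * (m * u₁ * m⁻¹), mul_mem hu hu₁', m, ⟨w, hm⟩, v, hv', hvL, ?_⟩
  calc g = u * m * v₀ := by rw [hmdef]; group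
    _ = u * (m * u₁ * m⁻¹) * m * v := by rw [he']; group

theorem normalForm_unique {u u₁ m m₁ v v₁ : SLn} (hu : u ∈ slU n F) (hu₁ : u₁ ∈ slU n F)
    (hm : m ∈ Mon n F) (hm₁ : m₁ ∈ Mon n F) (hv : v ∈ slU n F) (hv₁ : v₁ ∈ slU n F)
    (hL : m * v * m⁻¹ ∈ slL n F) (hL₁ : m₁ * v₁ * m₁⁻¹ ∈ slL n F)
    (he : u * m * v = u₁ * m₁ * v₁) : u = u₁ ∧ m = m₁ ∧ v = v₁ := by
  obtain ⟨π, hπ⟩ := hm
  obtain ⟨π₁, hπ₁⟩ := hm₁
  set A := u₁⁻¹ * u with hA
  set w := v₁ * v⁻¹ with hw
  have hAw : A * m = m₁ * w := by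
    calc A * m = u₁⁻¹ * (u * m * v) * v⁻¹ := by rw [hA]; group
      _ = m₁ * w := by rw [he, hw]; group
  have hAU : A ∈ slU n F := mul_mem (inv_mem hu₁) hu
  have hwU : w ∈ slU n F := mul_mem hv₁ (inv_mem hv)
  have hentry : ∀ j, m.1 (π j) j = m₁.1 (π j) (π₁⁻¹ (π j)) * w.1 (π₁⁻¹ (π j)) j := by
    intro j
    have := congrFun (congrFun (congrArg Subtype.val hAw) (π j)) j
    change (A.1 * m.1) (π j) j = (m₁.1 * w.1) (π j) j at this
    rw [mul_mon_apply hπ,
      mon_mul_apply hπ₁, mem_slU.mp hAU _ _ le_rfl, if_pos rfl, one_mul] at this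
    exact this
  have hππ : π = π₁ := by
    have : π₁⁻¹ * π = 1 := by
      refine eq_one_of_le fun j => ?_
      by_contra hlt
      rw [not_le, Equiv.Perm.mul_apply] at hlt
      have := hentry j
      rw [mem_slU.mp hwU _ _ hlt.le, if_neg hlt.ne', mul_zero] at this
      exact hπ.ne_zero j this
    exact (inv_mul_eq_one.mp this).symm
  subst hππ
  have hmm : m = m₁ := by
    refine Subtype.ext (Matrix.ext fun i j => ?_)
    rcases eq_or_ne i (π j) with rfl | hij
    · rw [hentry j, show π⁻¹ (π j) = j by simp, mem_slU.mp hwU j j le_rfl, if_pos rfl, mul_one]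
    · rw [hπ i j hij, hπ₁ i j hij]
  subst hmm
  have hA1 : A = 1 := by
    refine eq_one_of_upper_lower hAU ?_
    rw [show A = (m * v₁ * m⁻¹) * (m * v * m⁻¹)⁻¹ by
      rw [eq_mul_inv_iff_mul_eq, show A * (m * v * m⁻¹) = (A * m) * v * m⁻¹ by group, hAw, hw]
      group]
    exact mul_mem hL₁ (inv_mem hL)
  have hu' : u = u₁ := (inv_mul_eq_one.mp (by rw [← hA]; exact hA1)).symm
  subst hu'
  exact ⟨rfl, rfl, mul_left_cancel he⟩

theorem exists_mem_ne_one {m : SLn} {π : Equiv.Perm (Fin n)} (hm : IsMon m π) (hπ : π ≠ 1) :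
    ∃ x ∈ slU n F, m * x * m⁻¹ ∈ slL n F ∧ x ≠ 1 := by
  obtain ⟨i, j, hij, hji⟩ := exists_inversion hπ
  refine ⟨Matrix.SpecialLinearGroup.transvection hij.ne (1 : F), SLFusion.transvection_mem_slU hij.ne hij 1, ?_, ?_⟩
  · refine mem_slL.mpr fun a b hab => ?_
    obtain ⟨k, rfl⟩ := π.surjective a
    obtain ⟨l, rfl⟩ := π.surjective b
    have h := mon_conj hm (Matrix.SpecialLinearGroup.transvection hij.ne (1 : F)) k l
    rw [show (Matrix.SpecialLinearGroup.transvection hij.ne (1 : F)).1 k l = if k = l then 1 else 0 by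
      show Matrix.transvection i j (1 : F) k l = _
      rw [Matrix.transvection, Matrix.add_apply, Matrix.one_apply, Matrix.single_apply,
        if_neg (show ¬ (i = k ∧ j = l) from fun ⟨e1, e2⟩ => hji.not_ge (e1 ▸ e2 ▸ hab)), add_zero]] at h
    rcases eq_or_ne k l with rfl | hkl
    · rw [if_pos rfl, mul_one] at h
      rw [if_pos rfl]
      exact (mul_eq_right₀ (hm.ne_zero k)).mp h
    · rw [if_neg hkl, mul_zero] at h
      rw [if_neg (π.injective.ne hkl)]
      exact (mul_eq_zero.mp h).resolve_right (hm.ne_zero l)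
  · intro h
    have := congrFun (congrFun (congrArg Subtype.val h) i) j
    simp [Matrix.SpecialLinearGroup.transvection, Matrix.transvection, Matrix.one_apply_ne hij.ne] at this

/-- The fixed points of an automorphism. -/
def fixGrp {G : Type*} [Group G] (σ : G ≃* G) : Subgroup G where
  carrier := {g | σ g = g}
  one_mem' := map_one σ
  mul_mem' := fun {a b} (ha : σ a = a) (hb : σ b = b) => by
    show σ (a * b) = a * b
    rw [map_mul, ha, hb]
  inv_mem' := fun {a} (ha : σ a = a) => by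
    show σ a⁻¹ = a⁻¹
    rw [map_inv, ha]

/-- The diagonal elements. -/
def slD (n : ℕ) (F : Type*) [Field F] : Subgroup (Matrix.SpecialLinearGroup (Fin n) F) where
  carrier := {g | IsMon g 1}
  one_mem' := fun i j h => Matrix.one_apply_ne (by simpa using h)
  mul_mem' := fun {a b} (ha : IsMon a 1) (hb : IsMon b 1) => by
    have := ha.mul hb
    rwa [one_mul] at this
  inv_mem' := fun {a} (ha : IsMon a 1) => by
    have := ha.inv
    rwa [inv_one] at this

/-- Every subgroup of odd index of the fixed points is pronormal. -/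
theorem allPron_fixed [CharP F 2] (σ : SLn ≃* SLn) (hσ : ∀ g, σ (σ g) = g)
    (hU : ∀ g ∈ slU n F, σ g ∈ slU n F) (hL : ∀ g ∈ slL n F, σ g ∈ slL n F)
    (hM : ∀ g ∈ Mon n F, σ g ∈ Mon n F) : AllPron 2 (fixGrp σ) := by
  haveI : Fact (Nat.Prime 2) := ⟨Nat.prime_two⟩
  set G := fixGrp σ
  set U : Subgroup G := (slU n F).subgroupOf G with hUdef
  set T : Subgroup G := (slD n F).subgroupOf G with hTdef
  set N : Set G := {g | (g : SLn) ∈ Mon n F}
  have hTU : T ≤ Subgroup.normalizer (U : Set G) := fun t ht => by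
    have htB : (t : SLn) ∈ slB n F :=
      mem_slB.mpr fun i j hji => ht i j (by simpa using hji.ne')
    refine Subgroup.mem_normalizer_fintype fun y hy => ?_
    exact SLFusion.slU_conj htB hy
  have hN : ∀ m ∈ N, ∀ t ∈ T, m⁻¹ * t * m ∈ T := by
    rintro m ⟨π, hπ⟩ t (ht : IsMon (t : SLn) 1)
    have := (hπ.inv.mul ht).mul hπ
    rwa [mul_one, inv_mul_cancel] at this
  have hT : ∀ s ∈ T, ∀ t ∈ T, s * t = t * s := by
    intro s (hs : IsMon (s : SLn) 1) t (ht : IsMon (t : SLn) 1)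
    refine Subtype.ext (Subtype.ext (Matrix.ext fun i j => ?_))
    show ((s : SLn).1 * (t : SLn).1) i j = ((t : SLn).1 * (s : SLn).1) i j
    rw [mul_mon_apply ht, mul_mon_apply hs, Equiv.Perm.one_apply]
    rcases eq_or_ne i j with rfl | hij
    · exact mul_comm _ _
    · rw [hs i j (by simpa using hij), ht i j (by simpa using hij), zero_mul, zero_mul]
  have hform : ∀ g : G, ∃ u ∈ U, ∃ m ∈ N, ∃ v ∈ U,
      ((m : SLn) * v * (m : SLn)⁻¹ ∈ slL n F) ∧ g = u * m * v := by
    intro g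
    obtain ⟨u, hu, m, hm, v, hv, hvL, he⟩ := exists_normalForm (g : SLn)
    have hg : σ (g : SLn) = g := g.2
    have h : σ u * σ m * σ v = u * m * v := by rw [← map_mul, ← map_mul, ← he, hg]
    obtain ⟨h1, h2, h3⟩ := normalForm_unique (hU u hu) hu (hM m hm) hm (hU v hv) hv
      (by rw [← map_inv, ← map_mul, ← map_mul]; exact hL _ hvL) hvL h
    exact ⟨⟨u, h1⟩, hu, ⟨m, h2⟩, hm, ⟨v, h3⟩, hv, hvL, Subtype.ext he⟩
  have hnorm : ∀ g ∈ Subgroup.normalizer (U : Set G), ∃ u ∈ U, ∃ t ∈ T, g = u * t := by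
    intro g hg
    obtain ⟨u, hu, m, ⟨π, hπ⟩, v, hv, -, rfl⟩ := hform g
    have hmN : m ∈ Subgroup.normalizer (U : Set G) := by
      have := mul_mem (mul_mem (inv_mem (Subgroup.le_normalizer hu)) hg) (inv_mem (Subgroup.le_normalizer hv))
      simpa [mul_assoc] using this
    by_cases h1 : π = 1
    · subst h1
      exact ⟨u * (m * v * m⁻¹), mul_mem hu ((Subgroup.mem_normalizer_iff.mp hmN v).mp hv), m, hπ, by group⟩
    exfalso
    set X : Subgroup SLn := slU n F ⊓ (slL n F).comap (MulAut.conj (m : SLn)).toMonoidHom with hX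
    obtain ⟨x₀, hx₀U, hx₀L, hx₀1⟩ := exists_mem_ne_one hπ h1
    have hXp : IsPGroup 2 X := fun x => ⟨n, Subtype.ext (SLFusion.slU_pow_eq_one 2 x.2.1)⟩
    have heven : 2 ∣ Nat.card X := by
      refine (hXp.card_eq_or_dvd).resolve_left fun h => hx₀1 ?_
      have := (Subgroup.card_eq_one.mp h)
      exact Subgroup.mem_bot.mp (this ▸ (show x₀ ∈ X from ⟨hx₀U, hx₀L⟩))
    have hσX : ∀ x ∈ X, σ x ∈ X := fun x hx => ⟨hU x hx.1, by
      show (m : SLn) * σ x * (m : SLn)⁻¹ ∈ slL n F
      rw [← show σ (m : SLn) = m from m.2, ← map_inv, ← map_mul, ← map_mul]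
      exact hL _ hx.2⟩
    let f : Equiv.Perm X := Function.Involutive.toPerm (fun x => ⟨σ x, hσX x x.2⟩)
      fun x => Subtype.ext (hσ x)
    classical
    haveI := Fintype.ofFinite X
    obtain ⟨x, hx, hx1⟩ := f.exists_fixed_point_of_prime' (p := 2) (n := 1)
      (by rwa [← Nat.card_eq_fintype_card]) (by
        rw [pow_one, pow_two]
        exact Equiv.ext fun x => Subtype.ext (hσ x)) (a := 1) (Subtype.ext (map_one σ))
    have hxG : (x : SLn) ∈ G := congrArg Subtype.val hx
    have hc : (m : SLn) * x * (m : SLn)⁻¹ ∈ slU n F :=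
      (Subgroup.mem_normalizer_iff.mp hmN ⟨x, hxG⟩).mp x.2.1
    have h0 := eq_one_of_upper_lower hc x.2.2
    exact hx1 (Subtype.ext (conj_eq_one_iff.mp h0))
  have hUp : IsPGroup 2 U := fun u => ⟨n, Subtype.ext (Subtype.ext (SLFusion.slU_pow_eq_one 2 u.2))⟩
  have hmax : ∀ {P : Subgroup G}, IsPGroup 2 P → U ≤ P → P = U := by
    intro P hP hle
    by_contra hne
    have hlt : U.subgroupOf P < ⊤ :=
      lt_top_iff_ne_top.2 fun h => hne (le_antisymm (Subgroup.subgroupOf_eq_top.1 h) hle)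
    obtain ⟨g, hgN, hgU⟩ := SetLike.exists_of_lt
      (Group.normalizerCondition_of_isNilpotent (G := P) (h := hP.isNilpotent) _ hlt)
    have hgU' : (g : G) ∈ Subgroup.normalizer (U : Set G) := by
      refine Subgroup.mem_normalizer_fintype fun y hy => ?_
      exact (Subgroup.mem_normalizer_iff.mp hgN ⟨y, hle hy⟩).mp hy
    obtain ⟨u, hu, t, ht, he⟩ := hnorm _ hgU'
    have htP : t ∈ P := by
      rw [show t = u⁻¹ * (g : G) by rw [he]; group]
      exact mul_mem (inv_mem (hle hu)) g.2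
    obtain ⟨k, hk⟩ := hP ⟨t, htP⟩
    have hk' : ((t : SLn)) ^ 2 ^ k = 1 := congrArg (fun z : P => ((z : G) : SLn)) hk
    have htU : t ∈ U := SLFusion.mem_slU_of_pow 2
      (mem_slB.mpr fun i j hji => ht i j (by simpa using hji.ne')) hk'
    refine hgU (Subgroup.mem_subgroupOf.mpr ?_)
    rw [he]
    exact mul_mem hu htU
  let S : Sylow 2 G := ⟨U, hUp, hmax⟩
  exact pron_of_bruhat S T N hT hTU hN
    (fun g => by
      obtain ⟨u, hu, m, hm, v, hv, -, he⟩ := hform g
      exact ⟨u, hu, m, hm, v, hv, he⟩) hnorm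

end Cfsg.Agent.PronormalOdd
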