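/-
Characteristic two: subgroups of odd index of `SL_n(q)` and of `SU_n(q)`, `n` even, are pronormal.

* `allPron_SL_even`, `allPron_SU_even`
-/
import Cfsg.Agent.Lib.PronormalOdd.Even
import Cfsg.Agent.Lib.Linear.UnitaryBorel
import Cfsg.Agent.Lib.Unitary.Group

set_option autoImplicit false

namespace Cfsg.Agent.PronormalOdd

open Matrix
open Cfsg.Agent.SLFusion (slU mem_slU)

variable {n : ℕ} {F : Type*} [Field F] [Fintype F]

local notation "SLn" => Matrix.SpecialLinearGroup (Fin n) F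

theorem allPron_SL_even [CharP F 2] : AllPron 2 SLn := by
  refine pron_of_surjective (f := (fixGrp (MulEquiv.refl SLn)).subtype) (fun g => ⟨⟨g, rfl⟩, rfl⟩)
    (allPron_fixed (MulEquiv.refl SLn) (fun _ => rfl) (fun _ h => h) (fun _ h => h) fun _ h => h)

section Anti

/-- Transpose about the antidiagonal. -/
def anti {R : Type*} (A : Matrix (Fin n) (Fin n) R) : Matrix (Fin n) (Fin n) R :=
  Matrix.of fun i j => A j.rev i.rev

omit [Fintype F] in
theorem anti_mul (A B : Matrix (Fin n) (Fin n) F) : anti (A * B) = anti B * anti A := by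
  ext i j
  simp only [anti, Matrix.of_apply, Matrix.mul_apply]
  exact Fintype.sum_equiv Fin.revPerm _ _ fun k => by simp [mul_comm]

omit [Fintype F] in
theorem anti_one : anti (1 : Matrix (Fin n) (Fin n) F) = 1 := by
  ext i j
  simp [anti, Matrix.one_apply, eq_comm]

omit [Fintype F] in
theorem anti_anti (A : Matrix (Fin n) (Fin n) F) : anti (anti A) = A := by
  ext i j
  simp [anti]

omit [Fintype F] in
theorem det_anti (A : Matrix (Fin n) (Fin n) F) : (anti A).det = A.det := by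
  have : anti A = (A.submatrix Fin.revPerm Fin.revPerm)ᵀ := by
    ext i j
    simp [anti]
  rw [this, Matrix.det_transpose, Matrix.det_submatrix_equiv_self]

variable {q : ℕ} (hF : Fintype.card F = q ^ 2)

/-- The raw twisted map. -/
def tw (A : Matrix (Fin n) (Fin n) F) : Matrix (Fin n) (Fin n) F :=
  anti (A.map (Unitary.conjHom hF))

theorem tw_mul (A B : Matrix (Fin n) (Fin n) F) : tw hF (A * B) = tw hF B * tw hF A := by
  rw [tw, tw, tw, Matrix.map_mul, anti_mul]

theorem tw_one : tw hF (1 : Matrix (Fin n) (Fin n) F) = 1 := by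
  rw [tw, Matrix.map_one _ (map_zero _) (map_one _), anti_one]

theorem tw_tw (A : Matrix (Fin n) (Fin n) F) : tw hF (tw hF A) = A := by
  ext i j
  simp only [tw, anti, Matrix.of_apply, Matrix.map_apply, Fin.rev_rev, Unitary.conjHom_apply,
    Unitary.pow_q_pow_q hF]

theorem det_tw (A : Matrix (Fin n) (Fin n) F) : (tw hF A).det = Unitary.conjHom hF A.det := by
  rw [tw, det_anti, RingHom.map_det]
  rfl

/-- `g ↦ tw g` on `SL_n`. -/
def twSL (g : SLn) : SLn := ⟨tw hF g.1, by rw [det_tw, g.2, map_one]⟩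

theorem twSL_mul (g h : SLn) : twSL hF (g * h) = twSL hF h * twSL hF g :=
  Subtype.ext (tw_mul hF g.1 h.1)

theorem twSL_inv (g : SLn) : twSL hF g⁻¹ = (twSL hF g)⁻¹ := by
  refine eq_inv_of_mul_eq_one_left ?_
  rw [← twSL_mul, mul_inv_cancel]
  exact Subtype.ext (tw_one hF)

/-- The automorphism whose fixed points are `SU`. -/
def sigmaU : SLn ≃* SLn where
  toFun g := twSL hF g⁻¹
  invFun g := twSL hF g⁻¹
  left_inv g := by
    show twSL hF (twSL hF g⁻¹)⁻¹ = g
    rw [← twSL_inv, inv_inv]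
    exact Subtype.ext (tw_tw hF g.1)
  right_inv g := by
    show twSL hF (twSL hF g⁻¹)⁻¹ = g
    rw [← twSL_inv, inv_inv]
    exact Subtype.ext (tw_tw hF g.1)
  map_mul' g h := by
    show twSL hF (g * h)⁻¹ = twSL hF g⁻¹ * twSL hF h⁻¹
    rw [_root_.mul_inv_rev, twSL_mul]

theorem tw_apply (A : Matrix (Fin n) (Fin n) F) (i j : Fin n) : tw hF A i j = A j.rev i.rev ^ q := rfl

theorem twSL_slU {g : SLn} (hg : g ∈ slU n F) : twSL hF g ∈ slU n F := by
  refine mem_slU.mpr fun i j hji => ?_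
  show tw hF g.1 i j = _
  rw [tw_apply, mem_slU.mp hg _ _ (Fin.rev_le_rev.mpr hji)]
  simp only [Fin.rev_inj, eq_comm (a := j)]
  split_ifs
  · exact one_pow q
  · exact Unitary.zero_pow_q hF

theorem twSL_slL {g : SLn} (hg : g ∈ slL n F) : twSL hF g ∈ slL n F := by
  refine mem_slL.mpr fun i j hij => ?_
  show tw hF g.1 i j = _
  rw [tw_apply, mem_slL.mp hg _ _ (Fin.rev_le_rev.mpr hij)]
  simp only [Fin.rev_inj, eq_comm (a := j)]
  split_ifs
  · exact one_pow q
  · exact Unitary.zero_pow_q hF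

theorem twSL_mon {g : SLn} (hg : g ∈ Mon n F) : twSL hF g ∈ Mon n F := by
  obtain ⟨π, hπ⟩ := hg
  refine ⟨Fin.revPerm * π⁻¹ * Fin.revPerm, fun i j hij => ?_⟩
  show tw hF g.1 i j = _
  rw [tw_apply, hπ j.rev i.rev (fun e => hij ?_), Unitary.zero_pow_q hF]
  simp [Equiv.Perm.mul_apply, e]

/-- The columns of a hyperbolic frame, `e`'s first and `f`'s reversed. -/
theorem exists_antidiag_basis (m : ℕ) (hn : n = 2 * m) :
    ∃ C : Matrix (Fin n) (Fin n) F, Cᵀ * C.map (Unitary.conjHom hF) =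
      Matrix.of fun i j : Fin n => if j = i.rev then (1 : F) else 0 := by
  obtain ⟨Φ⟩ := UFus.exists_frame hF n
  let col : Fin n → (Fin n → F) := fun j =>
    if h : j.val < n / 2 then Φ.e ⟨j.val, h⟩ else Φ.f ⟨n - 1 - j.val, by omega⟩
  refine ⟨(Matrix.of col)ᵀ, ?_⟩
  ext i j
  rw [Matrix.of_apply]
  show Cfsg.hermForm n F q (col i) (col j) = _
  simp only [col]
  split_ifs with hi hj he he hj he he
  all_goals simp only [Φ.ee, Φ.ff, Φ.ef, Φ.fe hF, Fin.ext_iff, Fin.val_rev] at *
  all_goals first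
    | rfl
    | omega
    | (rw [if_pos (by omega)])
    | (rw [if_neg (by omega)])

include hF in
theorem allPron_SU_even [CharP F 2] (hn : Even n) : AllPron 2 (Cfsg.SU n F q) := by
  obtain ⟨m, hm⟩ := hn
  obtain ⟨C, hC⟩ := exists_antidiag_basis hF m (by omega : n = 2 * m)
  set J : Matrix (Fin n) (Fin n) F := Matrix.of fun i j => if j = i.rev then (1 : F) else 0 with hJ
  have hJA : ∀ (A : Matrix (Fin n) (Fin n) F) (i j : Fin n), (J * A) i j = A i.rev j := fun A i j => by
    rw [Matrix.mul_apply, Fintype.sum_eq_single i.rev (fun k hk => by simp [hJ, hk])]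
    simp [hJ]
  have hAJ : ∀ (A : Matrix (Fin n) (Fin n) F) (i j : Fin n), (A * J) i j = A i j.rev := fun A i j => by
    rw [Matrix.mul_apply, Fintype.sum_eq_single j.rev (fun k hk => by
      simp [hJ, show j ≠ k.rev from fun e => hk (by simp [e])])]
    simp [hJ]
  have hJJ : J * J = 1 := by
    ext i j
    rw [hJA]
    simp [hJ, Matrix.one_apply, eq_comm]
  have hanti : ∀ A : Matrix (Fin n) (Fin n) F, anti A = J * Aᵀ * J := fun A => by
    ext i j
    rw [hAJ, hJA]
    rfl
  have hdet : C.det ≠ 0 := fun h => by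
    have h1 : (Cᵀ * C.map (Unitary.conjHom hF)).det = 0 := by
      rw [Matrix.det_mul, Matrix.det_transpose, h, zero_mul]
    have h2 := congrArg Matrix.det hJJ
    rw [Matrix.det_mul, ← hC, h1, zero_mul, Matrix.det_one] at h2
    exact zero_ne_one h2
  let Cu : GL (Fin n) F := Matrix.GeneralLinearGroup.mkOfDetNeZero C hdet
  set Ci : Matrix (Fin n) (Fin n) F := (Cu⁻¹ : GL (Fin n) F).1 with hCi
  have hc1 : C * Ci = 1 := congrArg Units.val (mul_inv_cancel Cu)
  have hc2 : Ci * C = 1 := congrArg Units.val (inv_mul_cancel Cu)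
  set c := Unitary.conjHom hF
  -- unitarity as a matrix identity
  have huni : ∀ M : Matrix (Fin n) (Fin n) F, Unitary.IsUnitary q M ↔ Mᵀ * M.map c = 1 := by
    intro M
    rw [Unitary.isUnitary_iff_orthonormal hF]
    constructor
    · intro hb
      ext i j
      rw [Matrix.one_apply, ← Unitary.Orthonormal.apply hb i j]
      rfl
    · intro h
      have e : ∀ i j, Cfsg.hermForm n F q (Mᵀ i) (Mᵀ j) = if i = j then 1 else 0 := fun i j => by
        rw [← Matrix.one_apply, ← h]
        rfl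
      exact ⟨fun i => (e i i).trans (if_pos rfl), fun i j hij => (e i j).trans (if_neg hij)⟩
  have hfix : ∀ g : SLn, sigmaU hF g = g ↔ g.1ᵀ * J * g.1.map c = J := by
    intro g
    have h1 : sigmaU hF g = g ↔ tw hF g.1 * g.1 = 1 := by
      show twSL hF g⁻¹ = g ↔ _
      rw [twSL_inv, inv_eq_iff_mul_eq_one]
      exact Subtype.ext_iff
    rw [h1, tw, hanti]
    constructor
    · intro h
      have h' := congrArg (fun A : Matrix (Fin n) (Fin n) F => A.map c) h
      simp only [Matrix.map_mul, Matrix.map_one _ (map_zero c) (map_one c)] at h'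
      have hJc : J.map c = J := by
        ext i j
        simp only [hJ, Matrix.map_apply, Matrix.of_apply]
        split_ifs <;> simp
      have hgg : (g.1.map c)ᵀ.map c = g.1ᵀ := by
        ext i j
        simp [c, Unitary.pow_q_pow_q hF]
      rw [hJc, hgg] at h'
      have h'' := congrArg (J * ·) h'
      simp only [← Matrix.mul_assoc, hJJ, Matrix.one_mul, Matrix.mul_one] at h''
      exact h''
    · intro h
      have hJc : J.map c = J := by
        ext i j
        simp only [hJ, Matrix.map_apply, Matrix.of_apply]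
        split_ifs <;> simp
      have h' := congrArg (fun A : Matrix (Fin n) (Fin n) F => A.map c) h
      simp only [Matrix.map_mul, hJc] at h'
      have hgg : (g.1.map c).map c = g.1 := by
        ext i j
        simp [c, Unitary.pow_q_pow_q hF]
      rw [hgg, Matrix.transpose_map] at h'
      calc J * (g.1.map c)ᵀ * J * g.1 = J * ((g.1.map c)ᵀ * J * g.1) := by simp only [Matrix.mul_assoc]
        _ = 1 := by rw [h', hJJ]
  have hcc : Ci.map c * C.map c = 1 ∧ C.map c * Ci.map c = 1 := by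
    constructor <;> rw [← Matrix.map_mul] <;> simp [hc1, hc2, Matrix.map_one _ (map_zero c) (map_one c)]
  have hct : Ciᵀ * Cᵀ = 1 := by rw [← Matrix.transpose_mul, hc1, Matrix.transpose_one]
  let cv (g : SLn) : SLn := ⟨C * g.1 * Ci, by
    rw [Matrix.det_mul, Matrix.det_mul, g.2, mul_one, ← Matrix.det_mul, hc1, Matrix.det_one]⟩
  have hmem : ∀ g ∈ fixGrp (sigmaU hF), cv g ∈ Cfsg.SU n F q := by
    intro g hg
    refine (huni (C * g.1 * Ci)).mpr ?_
    rw [Matrix.transpose_mul, Matrix.transpose_mul, Matrix.map_mul, Matrix.map_mul]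
    calc Ciᵀ * (g.1ᵀ * Cᵀ) * (C.map c * g.1.map c * Ci.map c)
        = Ciᵀ * (g.1ᵀ * (Cᵀ * C.map c) * g.1.map c) * Ci.map c := by simp only [Matrix.mul_assoc]
      _ = Ciᵀ * (Cᵀ * C.map c) * Ci.map c := by rw [hC, (hfix g).mp hg]
      _ = (Ciᵀ * Cᵀ) * (C.map c * Ci.map c) := by simp only [Matrix.mul_assoc]
      _ = 1 := by rw [hct, hcc.2, Matrix.one_mul]
  let f : fixGrp (sigmaU (n := n) hF) →* Cfsg.SU n F q :=
    MonoidHom.mk' (fun g => ⟨cv g.1, hmem g.1 g.2⟩) fun g h => Subtype.ext (Subtype.ext (by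
      show C * (g.1.1 * h.1.1) * Ci = C * g.1.1 * Ci * (C * h.1.1 * Ci)
      simp only [Matrix.mul_assoc]
      rw [← Matrix.mul_assoc Ci C, hc2, Matrix.one_mul]))
  refine pron_of_surjective (f := f) (fun x => ?_)
    (allPron_fixed (sigmaU hF) (fun g => (sigmaU hF).left_inv g)
      (fun g hg => twSL_slU hF (inv_mem hg)) (fun g hg => twSL_slL hF (inv_mem hg))
      fun g ⟨π, hπ⟩ => twSL_mon hF ⟨π⁻¹, hπ.inv⟩)
  let g : SLn := ⟨Ci * x.1.1 * C, by
    rw [Matrix.det_mul, Matrix.det_mul, x.1.2, mul_one, ← Matrix.det_mul, hc2, Matrix.det_one]⟩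
  have hg : g ∈ fixGrp (sigmaU hF) := by
    refine (hfix g).mpr ?_
    have hx : x.1.1ᵀ * x.1.1.map c = 1 := (huni _).mp x.2
    show (Ci * x.1.1 * C)ᵀ * J * (Ci * x.1.1 * C).map c = J
    rw [Matrix.transpose_mul, Matrix.transpose_mul, Matrix.map_mul, Matrix.map_mul]
    calc Cᵀ * (x.1.1ᵀ * Ciᵀ) * J * (Ci.map c * x.1.1.map c * C.map c)
        = Cᵀ * x.1.1ᵀ * (Ciᵀ * J * Ci.map c) * x.1.1.map c * C.map c := by simp only [Matrix.mul_assoc]
      _ = Cᵀ * x.1.1ᵀ * ((Ciᵀ * Cᵀ) * (C.map c * Ci.map c)) * x.1.1.map c * C.map c := by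
          rw [← hC]; simp only [Matrix.mul_assoc]
      _ = Cᵀ * (x.1.1ᵀ * x.1.1.map c) * C.map c := by
          rw [hct, hcc.2, Matrix.one_mul, Matrix.mul_one]; simp only [Matrix.mul_assoc]
      _ = J := by rw [hx, Matrix.mul_one, hC]
  refine ⟨⟨g, hg⟩, Subtype.ext (Subtype.ext ?_)⟩
  show C * (Ci * x.1.1 * C) * Ci = x.1.1
  simp only [Matrix.mul_assoc]
  rw [hc1, Matrix.mul_one, ← Matrix.mul_assoc, hc1, Matrix.one_mul]

end Anti

end Cfsg.Agent.PronormalOdd
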