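/-
Doubling step for Sylow 2-subgroups of linear and unitary groups in dimension a power of two:
the wreath product by a swap of a rigid irreducible subgroup is rigid and irreducible.

* `Irr`, `Rigid` : the commutant is scalar; odd elements normalising are scalar
* `step` : the doubling step, for any subgroup between the wreath product and its determinant one part
* `wreath2`, `card_wreath2`
-/
import Cfsg.Agent.Lib.PronormalOdd.Crit
import Mathlib.LinearAlgebra.Matrix.GeneralLinearGroup.Basic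
import Mathlib.LinearAlgebra.Matrix.SchurComplement

set_option autoImplicit false

namespace Cfsg.Agent.PronormalOdd

open Matrix

variable {F : Type*} [Field F] {ι : Type} [Fintype ι] [DecidableEq ι]

/-- The commutant consists of scalars. -/
def Irr (A : Subgroup (GL ι F)) : Prop :=
  ∀ M : Matrix ι ι F, (∀ a ∈ A, M * a.val = a.val * M) → ∃ r : F, M = r • (1 : Matrix ι ι F)

/-- Elements of odd order normalising the subgroup are scalar. -/
def Rigid (G A : Subgroup (GL ι F)) : Prop :=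
  ∀ g ∈ G, Odd (orderOf g) → (∀ a ∈ A, g * a * g⁻¹ ∈ A) → ∃ r : F, g.val = r • (1 : Matrix ι ι F)

/-- Block diagonal elements. -/
def blk : GL ι F × GL ι F →* GL (ι ⊕ ι) F where
  toFun p := ⟨fromBlocks p.1.val 0 0 p.2.val, fromBlocks (p.1⁻¹).val 0 0 (p.2⁻¹).val,
    by simp [fromBlocks_multiply], by simp [fromBlocks_multiply]⟩
  map_one' := Units.ext (by simp)
  map_mul' p p' := Units.ext (by simp [fromBlocks_multiply])

theorem blk_val (p : GL ι F × GL ι F) : (blk p).val = fromBlocks p.1.val 0 0 p.2.val := rfl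

/-- The swap of the two halves. -/
def swapW (F : Type*) [Field F] (ι : Type) [Fintype ι] [DecidableEq ι] : GL (ι ⊕ ι) F :=
  ⟨fromBlocks 0 1 1 0, fromBlocks 0 1 1 0, by simp [fromBlocks_multiply], by simp [fromBlocks_multiply]⟩

theorem swapW_val : (swapW F ι).val = fromBlocks 0 1 1 0 := rfl

theorem swapW_mul_self : swapW F ι * swapW F ι = 1 :=
  Units.ext (by simp [swapW_val, fromBlocks_multiply])

theorem swapW_blk (a b : GL ι F) : swapW F ι * blk (a, b) = blk (b, a) * swapW F ι :=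
  Units.ext (by simp [swapW_val, blk_val, fromBlocks_multiply])

theorem swapW_conj (a b : GL ι F) : swapW F ι * blk (a, b) * (swapW F ι)⁻¹ = blk (b, a) := by
  rw [swapW_blk, mul_inv_cancel_right]

theorem neg_blk (a b : GL ι F) : -blk (a, b) = blk (-a, -b) :=
  Units.ext (by simp [blk_val, fromBlocks_neg])

theorem blk_inj {p p' : GL ι F × GL ι F} (h : blk p = blk p') : p = p' := by
  have h' := congrArg Units.val h
  rw [blk_val, blk_val, fromBlocks_inj] at h'
  exact Prod.ext (Units.ext h'.1) (Units.ext h'.2.2.2)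

theorem blk_ne_blk_mul_swap [Nonempty ι] (p p' : GL ι F × GL ι F) : blk p ≠ blk p' * swapW F ι := by
  intro h
  have h' := congrArg Units.val h
  rw [Units.val_mul, blk_val, blk_val, swapW_val, fromBlocks_multiply, fromBlocks_inj] at h'
  have h1 : p.1.val = 0 := by simpa using h'.1
  exact (Units.ne_zero p.1) h1

theorem det_blk (a b : GL ι F) :
    GeneralLinearGroup.det (blk (a, b)) = GeneralLinearGroup.det a * GeneralLinearGroup.det b :=
  Units.ext (by simp [blk_val, det_fromBlocks_zero₂₁])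

theorem det_neg_one_even (h : Even (Fintype.card ι)) :
    GeneralLinearGroup.det (-1 : GL ι F) = 1 :=
  Units.ext (by
    rw [GeneralLinearGroup.val_det_apply, Units.val_neg, Units.val_one, Matrix.det_neg, Matrix.det_one,
      h.neg_one_pow]
    simp)

theorem det_swapW (h2 : (2 : F) ≠ 0) :
    GeneralLinearGroup.det (swapW F ι) = GeneralLinearGroup.det (blk (1, -1) : GL (ι ⊕ ι) F) := by
  have e : (swapW F ι).val * fromBlocks 1 1 1 (-1) =
      fromBlocks 1 1 1 (-1) * (blk ((1 : GL ι F), (-1 : GL ι F))).val := by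
    simp [swapW_val, blk_val, fromBlocks_multiply]
  have hP : (fromBlocks 1 1 1 (-1) : Matrix (ι ⊕ ι) (ι ⊕ ι) F) * fromBlocks 1 1 1 (-1) =
      (2 : F) • (1 : Matrix (ι ⊕ ι) (ι ⊕ ι) F) := by
    rw [fromBlocks_multiply, ← fromBlocks_one, fromBlocks_smul]
    simp [two_smul]
  have hP0 : (fromBlocks 1 1 1 (-1) : Matrix (ι ⊕ ι) (ι ⊕ ι) F).det ≠ 0 := by
    intro h
    have := congrArg Matrix.det hP
    rw [Matrix.det_mul, h, zero_mul, Matrix.det_smul, Matrix.det_one, mul_one] at this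
    exact pow_ne_zero _ h2 this.symm
  refine Units.ext ?_
  rw [GeneralLinearGroup.val_det_apply, GeneralLinearGroup.val_det_apply]
  have := congrArg Matrix.det e
  rw [Matrix.det_mul, Matrix.det_mul, mul_comm] at this
  exact mul_left_cancel₀ hP0 this

/-- The wreath product with the swap. -/
def wreath2 (A : Subgroup (GL ι F)) : Subgroup (GL (ι ⊕ ι) F) where
  carrier := {x | ∃ a ∈ A, ∃ b ∈ A, x = blk (a, b) ∨ x = blk (a, b) * swapW F ι}
  one_mem' := ⟨1, one_mem _, 1, one_mem _, Or.inl (map_one blk).symm⟩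
  mul_mem' := by
    rintro _ _ ⟨a, ha, b, hb, rfl | rfl⟩ ⟨c, hc, d, hd, rfl | rfl⟩
    · exact ⟨a * c, mul_mem ha hc, b * d, mul_mem hb hd, Or.inl (map_mul blk (a, b) (c, d)).symm⟩
    · exact ⟨a * c, mul_mem ha hc, b * d, mul_mem hb hd,
        Or.inr (by rw [← mul_assoc, ← map_mul]; rfl)⟩
    · exact ⟨a * d, mul_mem ha hd, b * c, mul_mem hb hc,
        Or.inr (by rw [mul_assoc, swapW_blk, ← mul_assoc, ← map_mul]; rfl)⟩
    · exact ⟨a * d, mul_mem ha hd, b * c, mul_mem hb hc, Or.inl (by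
        rw [mul_assoc (blk (a, b)), ← mul_assoc (swapW F ι), swapW_blk, mul_assoc (blk (d, c)),
          swapW_mul_self, mul_one, ← map_mul]
        rfl)⟩
  inv_mem' := by
    rintro _ ⟨a, ha, b, hb, rfl | rfl⟩
    · exact ⟨a⁻¹, inv_mem ha, b⁻¹, inv_mem hb, Or.inl (map_inv blk (a, b)).symm⟩
    · refine ⟨b⁻¹, inv_mem hb, a⁻¹, inv_mem ha, Or.inr ?_⟩
      rw [_root_.mul_inv_rev, inv_eq_of_mul_eq_one_right (swapW_mul_self (F := F) (ι := ι)), ← map_inv,
        show ((a, b) : GL ι F × GL ι F)⁻¹ = (a⁻¹, b⁻¹) from rfl, swapW_blk]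

theorem blk_mem_wreath2 {A : Subgroup (GL ι F)} {a b : GL ι F} (ha : a ∈ A) (hb : b ∈ A) :
    blk (a, b) ∈ wreath2 A := ⟨a, ha, b, hb, Or.inl rfl⟩

theorem swapW_mem_wreath2 (A : Subgroup (GL ι F)) : swapW F ι ∈ wreath2 A :=
  ⟨1, one_mem _, 1, one_mem _, Or.inr (by rw [show ((1, 1) : GL ι F × GL ι F) = 1 from rfl, map_one, one_mul])⟩

theorem card_wreath2 [Nonempty ι] (A : Subgroup (GL ι F)) :
    Nat.card (wreath2 A) = 2 * Nat.card A ^ 2 := by
  rw [pow_two, show 2 * (Nat.card A * Nat.card A) = Nat.card Bool * Nat.card (A × A) by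
    rw [Nat.card_prod]; simp, ← Nat.card_prod]
  refine (Nat.card_congr (Equiv.ofBijective
    (fun q : Bool × A × A => (⟨if q.1 then blk (q.2.1.1, q.2.2.1) else blk (q.2.1.1, q.2.2.1) * swapW F ι,
      q.2.1, q.2.1.2, q.2.2, q.2.2.2, by cases q.1 <;> simp⟩ : wreath2 A)) ⟨?_, ?_⟩)).symm
  · rintro ⟨s, a, b⟩ ⟨s', a', b'⟩ h
    have h' := congrArg Subtype.val h
    cases s <;> cases s' <;> simp only [Bool.false_eq_true, if_false, if_true] at h'
    · have := blk_inj (mul_right_cancel h')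
      simp only [Prod.mk.injEq] at this
      rw [Subtype.ext this.1, Subtype.ext this.2]
    · exact absurd h'.symm (blk_ne_blk_mul_swap _ _)
    · exact absurd h' (blk_ne_blk_mul_swap _ _)
    · have := blk_inj h'
      simp only [Prod.mk.injEq] at this
      rw [Subtype.ext this.1, Subtype.ext this.2]
  · rintro ⟨_, a, ha, b, hb, rfl | rfl⟩
    · exact ⟨(true, ⟨a, ha⟩, ⟨b, hb⟩), rfl⟩
    · exact ⟨(false, ⟨a, ha⟩, ⟨b, hb⟩), rfl⟩

theorem blk_one_neg_ne [Nonempty ι] (h2 : (2 : F) ≠ 0) :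
    blk ((1 : GL ι F), (-1 : GL ι F)) ≠ 1 ∧ blk ((1 : GL ι F), (-1 : GL ι F)) ≠ -1 := by
  have hne : (-1 : GL ι F) ≠ 1 := fun h => by
    obtain ⟨i⟩ := ‹Nonempty ι›
    have e := congrArg Units.val h
    have := congrFun (congrFun e i) i
    simp at this
    exact h2 (by linear_combination -this)
  constructor
  · intro h
    rw [← map_one blk] at h
    exact hne (congrArg Prod.snd (blk_inj h))
  · intro h
    rw [← map_one blk, show (1 : GL ι F × GL ι F) = ((1 : GL ι F), (1 : GL ι F)) from rfl, neg_blk] at h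
    exact hne (congrArg Prod.fst (blk_inj h)).symm

/-- The hypotheses on the group to which the step applies. -/
structure StepData (A B : Subgroup (GL ι F)) (S : Subgroup (GL (ι ⊕ ι) F)) : Prop where
  two : IsPGroup 2 S
  le : S ≤ wreath2 A
  swap : swapW F ι ∈ S
  neg : blk ((1 : GL ι F), (-1 : GL ι F)) ∈ S
  left : ∀ s ∈ B, blk (s, 1) ∈ S
  proj : ∀ a ∈ A, ∃ b : GL ι F, blk (a, b) ∈ S

variable {A B : Subgroup (GL ι F)} {S : Subgroup (GL (ι ⊕ ι) F)}

theorem StepData.irr (d : StepData A B S) (h2 : (2 : F) ≠ 0) (hA : Irr A) : Irr S := by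
  intro M hM
  have hz := hM _ d.neg
  have hw := hM _ d.swap
  rw [blk_val, ← fromBlocks_toBlocks M, fromBlocks_multiply, fromBlocks_multiply, fromBlocks_inj] at hz
  rw [swapW_val, ← fromBlocks_toBlocks M, fromBlocks_multiply, fromBlocks_multiply, fromBlocks_inj] at hw
  simp only [Units.val_one, Units.val_neg, Matrix.mul_one, Matrix.mul_zero, Matrix.one_mul, Matrix.zero_mul,
    Matrix.mul_neg, Matrix.neg_mul, add_zero, zero_add] at hz hw
  have h12 : M.toBlocks₁₂ = 0 := by
    ext i j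
    have := congrFun (congrFun hz.2.1 i) j
    rw [Matrix.neg_apply] at this
    rw [Matrix.zero_apply]
    exact (mul_eq_zero.mp (by linear_combination -this : (2 : F) * M.toBlocks₁₂ i j = 0)).resolve_left h2
  have h21 : M.toBlocks₂₁ = 0 := by rw [hw.2.2.2, h12]
  have h22 : M.toBlocks₂₂ = M.toBlocks₁₁ := hw.2.1.symm
  obtain ⟨r, hr⟩ := hA M.toBlocks₁₁ fun a ha => by
    obtain ⟨b, hb⟩ := d.proj a ha
    have := hM _ hb
    rw [blk_val, ← fromBlocks_toBlocks M, fromBlocks_multiply, fromBlocks_multiply, fromBlocks_inj] at this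
    simpa [h12, h21] using this.1
  refine ⟨r, ?_⟩
  conv_lhs => rw [← fromBlocks_toBlocks M, h12, h21, h22, hr]
  rw [← fromBlocks_one, fromBlocks_smul, smul_zero]

theorem odd_orderOf_dvd {G H : Type*} [Group G] [Group H] {g : G} {h : H} (hg : Odd (orderOf g))
    (hh : ∀ k : ℕ, g ^ k = 1 → h ^ k = 1) : Odd (orderOf h) :=
  hg.of_dvd_nat (orderOf_dvd_of_pow_eq_one (hh _ (pow_orderOf_eq_one g)))

theorem StepData.rigid [Nonempty ι] (d : StepData A B S) (h2 : (2 : F) ≠ 0) (hB : Irr B)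
    (hw : ∃ s ∈ B, s ≠ 1 ∧ s ≠ -1) {G : Subgroup (GL ι F)} (hA : Rigid G A)
    {G₂ : Subgroup (GL (ι ⊕ ι) F)} (hG : ∀ a b, blk (a, b) ∈ G₂ → a ∈ G ∧ b ∈ G) : Rigid G₂ S := by
  intro g hg hgo hn
  have hpow : ∀ k : ℕ, ∀ s ∈ S, g ^ k * s * (g ^ k)⁻¹ ∈ S := by
    intro k
    induction k with
    | zero => simp
    | succ k ih =>
      intro s hs
      have := hn _ (ih s hs)
      simpa [pow_succ', mul_assoc] using this
  have hinv : ∀ s ∈ S, g⁻¹ * s * g ∈ S := by
    intro s hs
    have e : g⁻¹ = g ^ (orderOf g - 1) := by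
      rw [inv_eq_iff_mul_eq_one, ← pow_succ', Nat.sub_add_cancel hgo.pos, pow_orderOf_eq_one]
    have := hpow (orderOf g - 1) s hs
    rwa [← e, inv_inv] at this
  set z : GL (ι ⊕ ι) F := blk (1, -1) with hz
  have hz2 : z * z = 1 := by
    rw [hz, ← map_mul, show ((1, -1) : GL ι F × GL ι F) * (1, -1) = 1 from Prod.ext (mul_one _) (by simp), map_one]
  have hzS : ∀ s ∈ S, z * s * z⁻¹ = s ∨ z * s * z⁻¹ = -s := by
    intro s hs
    obtain ⟨a, -, b, -, rfl | rfl⟩ := d.le hs
    · left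
      rw [hz, ← map_inv, ← map_mul, ← map_mul]
      exact congrArg blk (Prod.ext (by simp) (by simp))
    · right
      rw [hz, ← mul_assoc, ← map_mul, mul_assoc, ← map_inv, swapW_blk, ← mul_assoc, ← map_mul,
        ← neg_mul, neg_blk]
      exact congrArg (fun p => blk p * swapW F ι) (Prod.ext (by simp) (by simp))
  set x := g * z * g⁻¹ with hx
  have hxS : x ∈ S := hn _ d.neg
  have hxS' : ∀ s ∈ S, x * s * x⁻¹ = s ∨ x * s * x⁻¹ = -s := by
    intro s hs
    have e : x * s * x⁻¹ = g * (z * (g⁻¹ * s * g) * z⁻¹) * g⁻¹ := by rw [hx]; group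
    rw [e]
    rcases hzS _ (hinv s hs) with h | h <;> rw [h]
    · left; group
    · right; rw [mul_neg, neg_mul]; congr 1; group
  have hx2 : x * x = 1 := by rw [hx, show g * z * g⁻¹ * (g * z * g⁻¹) = g * (z * z) * g⁻¹ by group, hz2]; group
  obtain ⟨a, -, b, -, hxab | hxab⟩ := d.le hxS
  swap
  · exfalso
    obtain ⟨w, hw, hw1, hw2⟩ := hw
    have hcalc : x * blk (w, 1) * x⁻¹ = blk (1, b * w * b⁻¹) := by
      rw [hxab, mul_assoc (blk (a, b)), swapW_blk, ← mul_assoc, ← map_mul, _root_.mul_inv_rev,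
        ← mul_assoc, mul_inv_cancel_right, ← map_inv, ← map_mul]
      exact congrArg blk (Prod.ext (by simp) rfl)
    rcases hxS' _ (d.left w hw) with h | h <;> rw [hcalc] at h
    · exact hw1 (congrArg Prod.fst (blk_inj h)).symm
    · rw [neg_blk] at h
      have e : (1 : GL ι F) = -w := congrArg Prod.fst (blk_inj h)
      exact hw2 (by rw [← neg_neg w, ← e])
  have hcomm : ∀ s ∈ B, a * s = s * a ∧ b * s = s * b := by
    intro s hs
    have hne : (1 : GL ι F) ≠ -1 := fun h => (blk_one_neg_ne (ι := ι) h2).1 (by rw [← h]; exact map_one blk)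
    constructor
    · have hcalc : x * blk (s, 1) * x⁻¹ = blk (a * s * a⁻¹, 1) := by
        rw [hxab, ← map_inv, ← map_mul, ← map_mul]
        exact congrArg blk (Prod.ext rfl (by simp))
      rcases hxS' _ (d.left s hs) with h | h <;> rw [hcalc] at h
      · exact mul_inv_eq_iff_eq_mul.mp (congrArg Prod.fst (blk_inj h))
      · rw [neg_blk] at h
        exact absurd (congrArg Prod.snd (blk_inj h)) hne
    · have hS' : blk (1, s) ∈ S := by
        rw [← swapW_conj s 1]
        exact mul_mem (mul_mem d.swap (d.left s hs)) (inv_mem d.swap)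
      have hcalc : x * blk (1, s) * x⁻¹ = blk (1, b * s * b⁻¹) := by
        rw [hxab, ← map_inv, ← map_mul, ← map_mul]
        exact congrArg blk (Prod.ext (by simp) rfl)
      rcases hxS' _ hS' with h | h <;> rw [hcalc] at h
      · exact mul_inv_eq_iff_eq_mul.mp (congrArg Prod.snd (blk_inj h))
      · rw [neg_blk] at h
        exact absurd (congrArg Prod.fst (blk_inj h)) hne
  have hab2 : a * a = 1 ∧ b * b = 1 := by
    rw [hxab, ← map_mul, ← map_one blk] at hx2
    exact ⟨congrArg Prod.fst (blk_inj hx2), congrArg Prod.snd (blk_inj hx2)⟩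
  have hpm : ∀ c : GL ι F, (∀ s ∈ B, c * s = s * c) → c * c = 1 → c = 1 ∨ c = -1 := by
    intro c hc hc2
    obtain ⟨r, hr⟩ := hB c.val fun s hs => congrArg Units.val (hc s hs)
    obtain ⟨i⟩ := ‹Nonempty ι›
    have e := congrArg Units.val hc2
    have h := congrFun (congrFun e i) i
    rw [Units.val_mul, hr, smul_mul_smul_comm, Matrix.mul_one] at h
    simp at h
    rcases mul_self_eq_one_iff.mp h with h' | h'
    · left; exact Units.ext (by rw [hr, h', one_smul, Units.val_one])
    · right; exact Units.ext (by rw [hr, h', neg_one_smul, Units.val_neg, Units.val_one])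
  have hgz : g * z = z * g := by
    have hz1 := blk_one_neg_ne (ι := ι) (F := F) h2
    have hcase : x = z ∨ x = -z := by
      rcases hpm a (fun s hs => (hcomm s hs).1) hab2.1 with rfl | rfl <;>
        rcases hpm b (fun s hs => (hcomm s hs).2) hab2.2 with rfl | rfl
      · exfalso
        rw [show ((1, 1) : GL ι F × GL ι F) = 1 from rfl, map_one, hx, conj_eq_one_iff] at hxab
        exact hz1.1 hxab
      · exact Or.inl hxab
      · right
        rw [hxab, hz, neg_blk]
        simp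
      · exfalso
        rw [← neg_blk, show ((1, 1) : GL ι F × GL ι F) = 1 from rfl, map_one, hx,
          mul_inv_eq_iff_eq_mul, neg_one_mul] at hxab
        exact hz1.2 (mul_left_cancel (a := g) (by rw [hxab, mul_neg, mul_one]))
    rcases hcase with h | h
    · exact mul_inv_eq_iff_eq_mul.mp h
    · have h' : g * z = -(z * g) := by rw [← neg_mul]; exact mul_inv_eq_iff_eq_mul.mp h
      have h2' : Commute (g ^ 2) z := by
        show g ^ 2 * z = z * g ^ 2
        rw [pow_two, mul_assoc, h', mul_neg, ← mul_assoc, h', neg_mul, neg_neg, mul_assoc]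
      obtain ⟨m, hm⟩ := hgo
      have hg' : g = (g ^ 2) ^ (m + 1) := by
        rw [← pow_mul, show 2 * (m + 1) = orderOf g + 1 by omega, pow_succ, pow_orderOf_eq_one, one_mul]
      rw [hg']
      exact (h2'.pow_left _).eq
  -- `g` is block diagonal
  have hblock : ∀ h : GL (ι ⊕ ι) F, h * z = z * h → h.val.toBlocks₁₂ = 0 ∧ h.val.toBlocks₂₁ = 0 := by
    intro h hc
    have hc' := congrArg Units.val hc
    rw [Units.val_mul, Units.val_mul, hz, blk_val, ← fromBlocks_toBlocks h.val, fromBlocks_multiply,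
      fromBlocks_multiply, fromBlocks_inj] at hc'
    simp only [Units.val_one, Units.val_neg, Matrix.mul_one, Matrix.mul_zero, Matrix.one_mul,
      Matrix.zero_mul, Matrix.mul_neg, Matrix.neg_mul, add_zero, zero_add] at hc'
    constructor <;> ext i j <;> rw [Matrix.zero_apply]
    · have := congrFun (congrFun hc'.2.1 i) j
      rw [Matrix.neg_apply] at this
      exact (mul_eq_zero.mp (by linear_combination -this : (2 : F) * h.val.toBlocks₁₂ i j = 0)).resolve_left h2
    · have := congrFun (congrFun hc'.2.2.1 i) j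
      rw [Matrix.neg_apply] at this
      exact (mul_eq_zero.mp (by linear_combination this : (2 : F) * h.val.toBlocks₂₁ i j = 0)).resolve_left h2
  obtain ⟨g12, g21⟩ := hblock g hgz
  obtain ⟨i12, i21⟩ := hblock g⁻¹ ((Commute.inv_left hgz).eq)
  have hgval : g.val = fromBlocks g.val.toBlocks₁₁ 0 0 g.val.toBlocks₂₂ := by
    conv_lhs => rw [← fromBlocks_toBlocks g.val, g12, g21]
  have hival : (g⁻¹).val = fromBlocks (g⁻¹).val.toBlocks₁₁ 0 0 (g⁻¹).val.toBlocks₂₂ := by
    conv_lhs => rw [← fromBlocks_toBlocks (g⁻¹).val, i12, i21]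
  have e1 := congrArg Units.val (mul_inv_cancel g)
  have e2 := congrArg Units.val (inv_mul_cancel g)
  rw [Units.val_mul, hgval, hival, fromBlocks_multiply, Units.val_one, ← fromBlocks_one, fromBlocks_inj] at e1
  rw [Units.val_mul, hgval, hival, fromBlocks_multiply, Units.val_one, ← fromBlocks_one, fromBlocks_inj] at e2
  simp only [Matrix.mul_zero, Matrix.zero_mul, add_zero, zero_add] at e1 e2
  let g1 : GL ι F := ⟨g.val.toBlocks₁₁, (g⁻¹).val.toBlocks₁₁, e1.1, e2.1⟩
  let g2 : GL ι F := ⟨g.val.toBlocks₂₂, (g⁻¹).val.toBlocks₂₂, e1.2.2.2, e2.2.2.2⟩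
  have hgb : g = blk (g1, g2) := Units.ext (by rw [blk_val]; exact hgval)
  have hord : ∀ k : ℕ, g ^ k = 1 → g1 ^ k = 1 ∧ g2 ^ k = 1 := by
    intro k hk
    rw [hgb, ← map_pow, ← map_one blk] at hk
    exact ⟨congrArg Prod.fst (blk_inj hk), congrArg Prod.snd (blk_inj hk)⟩
  have hconj : ∀ a' ∈ A, ∀ b', blk (a', b') ∈ S → g1 * a' * g1⁻¹ ∈ A ∧ g2 * b' * g2⁻¹ ∈ A := by
    intro a' _ b' hab'
    have := d.le (hn _ hab')
    rw [hgb, ← map_inv, ← map_mul, ← map_mul] at this
    obtain ⟨c, hc, e, he, h | h⟩ := this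
    · have := blk_inj h
      exact ⟨(show g1 * a' * g1⁻¹ = c from congrArg Prod.fst this).symm ▸ hc,
        (show g2 * b' * g2⁻¹ = e from congrArg Prod.snd this).symm ▸ he⟩
    · exact absurd h (blk_ne_blk_mul_swap _ _)
  obtain ⟨hg1, hg2⟩ := hG g1 g2 (hgb ▸ hg)
  have hg1o : Odd (orderOf g1) := odd_orderOf_dvd hgo fun k hk => (hord k hk).1
  have hg2o : Odd (orderOf g2) := odd_orderOf_dvd hgo fun k hk => (hord k hk).2
  obtain ⟨r, hr⟩ := hA g1 hg1 hg1o fun a' ha' => by
    obtain ⟨b', hb'⟩ := d.proj a' ha'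
    exact (hconj a' ha' b' hb').1
  obtain ⟨r', hr'⟩ := hA g2 hg2 hg2o fun a' ha' => by
    obtain ⟨b', hb'⟩ := d.proj a' ha'
    have hswap : blk (b', a') ∈ S := by
      rw [← swapW_conj a' b']
      exact mul_mem (mul_mem d.swap hb') (inv_mem d.swap)
    obtain ⟨c, hc, e, -, h | h⟩ := d.le hswap
    · exact (hconj b' ((show b' = c from congrArg Prod.fst (blk_inj h)).symm ▸ hc) a' hswap).2
    · exact absurd h (blk_ne_blk_mul_swap _ _)
  have hy : g * swapW F ι * g⁻¹ * (swapW F ι)⁻¹ = blk (g1 * g2⁻¹, g2 * g1⁻¹) := by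
    rw [hgb, ← map_inv, show ((g1, g2) : GL ι F × GL ι F)⁻¹ = (g1⁻¹, g2⁻¹) from rfl,
      mul_assoc (blk (g1, g2)) (swapW F ι), swapW_blk, ← mul_assoc, mul_inv_cancel_right, ← map_mul]
    rfl
  obtain ⟨k, hk⟩ := d.two ⟨_, mul_mem (hn _ d.swap) (inv_mem d.swap)⟩
  have hk' : (g1 * g2⁻¹) ^ 2 ^ k = 1 := by
    have := congrArg Subtype.val hk
    simp only [SubmonoidClass.coe_pow, hy, OneMemClass.coe_one] at this
    rw [← map_pow, ← map_one blk] at this
    exact congrArg Prod.fst (blk_inj this)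
  have hc : Commute g1 g2⁻¹ := by
    refine Commute.inv_right (Units.ext ?_)
    rw [Units.val_mul, Units.val_mul, hr, hr', smul_mul_smul_comm, smul_mul_smul_comm, mul_comm r r']
  have hodd' : Odd (orderOf (g1 * g2⁻¹)) := by
    refine (hg1o.mul hg2o).of_dvd_nat (orderOf_dvd_of_pow_eq_one ?_)
    rw [hc.mul_pow, pow_mul, pow_orderOf_eq_one, one_pow, one_mul, inv_pow, mul_comm, pow_mul,
      pow_orderOf_eq_one, one_pow, inv_one]
  obtain ⟨j, -, hj⟩ := (Nat.dvd_prime_pow Nat.prime_two).mp (orderOf_dvd_of_pow_eq_one hk')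
  have hj0 : j = 0 := by
    cases j with
    | zero => rfl
    | succ j => rw [hj] at hodd'; exact absurd hodd' (by simp [Nat.pow_succ])
  have h12 : g1 = g2 := by
    rw [hj0, pow_zero, orderOf_eq_one_iff] at hj
    exact mul_inv_eq_one.mp hj
  refine ⟨r, ?_⟩
  rw [hgb, blk_val, ← h12, hr, ← fromBlocks_one, fromBlocks_smul, smul_zero]

end Cfsg.Agent.PronormalOdd
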