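/-
The bases and the levels of the tower of Sylow 2-subgroups.

* `Level` : a rigid irreducible 2-subgroup with irreducible determinant one part
* `level_step`, `step_det` : the doubling
* `level_dihedral` : dimension two, semidihedral Sylow subgroups
* `level_wreathed` : dimension two, wreathed Sylow subgroups
-/
import Cfsg.Agent.Lib.PronormalOdd.Tower

set_option autoImplicit false

namespace Cfsg.Agent.PronormalOdd

open Matrix

variable {F : Type*} [Field F] {ι : Type} [Fintype ι] [DecidableEq ι]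

local notation "detK" => MonoidHom.ker GeneralLinearGroup.det

/-- A level of the tower. -/
structure Level (G A : Subgroup (GL ι F)) : Prop where
  le : A ≤ G
  two : IsPGroup 2 A
  neg : (-1 : GL ι F) ∈ A
  irr : Irr A
  irrDet : Irr (A ⊓ (GeneralLinearGroup.det : GL ι F →* Fˣ).ker)
  wit : ∃ s ∈ A ⊓ (GeneralLinearGroup.det : GL ι F →* Fˣ).ker, s ≠ 1 ∧ s ≠ -1
  rigid : Rigid G A

/-- A submonoid of a finite group is a subgroup. -/
def subgroupOfSubmonoid {G : Type*} [Group G] [Finite G] (M : Submonoid G) : Subgroup G :=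
  { M with
    inv_mem' := fun {g} hg => by
      show g⁻¹ ∈ M
      have e : g⁻¹ = g ^ (orderOf g - 1) := by
        rw [inv_eq_iff_mul_eq_one, ← pow_succ', Nat.sub_add_cancel (orderOf_pos g), pow_orderOf_eq_one]
      rw [e]
      exact pow_mem hg _ }

theorem Irr.mono {A B : Subgroup (GL ι F)} (h : A ≤ B) (hA : Irr A) : Irr B :=
  fun M hM => hA M fun a ha => hM a (h ha)

theorem isPGroup_wreath2 [Nonempty ι] [Finite F] {A : Subgroup (GL ι F)} (hA : IsPGroup 2 A) :
    IsPGroup 2 (wreath2 A) := by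
  haveI : Fact (Nat.Prime 2) := ⟨Nat.prime_two⟩
  obtain ⟨k, hk⟩ := hA.exists_card_eq
  refine IsPGroup.of_card (n := 1 + k * 2) ?_
  rw [card_wreath2, hk, pow_add, pow_mul, pow_one]

theorem stepData_det [Nonempty ι] [Finite F] (h2 : (2 : F) ≠ 0) (hι : Even (Fintype.card ι))
    {G A : Subgroup (GL ι F)} (L : Level G A) :
    StepData A (A ⊓ (GeneralLinearGroup.det : GL ι F →* Fˣ).ker)
      (wreath2 A ⊓ (GeneralLinearGroup.det : GL (ι ⊕ ι) F →* Fˣ).ker) := by
  have hz : GeneralLinearGroup.det (blk ((1 : GL ι F), (-1 : GL ι F))) = 1 := by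
    rw [det_blk, map_one, one_mul, det_neg_one_even hι]
  refine ⟨(isPGroup_wreath2 L.two).to_le inf_le_left, inf_le_left, ⟨swapW_mem_wreath2 A, ?_⟩,
    ⟨blk_mem_wreath2 (one_mem _) L.neg, hz⟩, fun s hs => ⟨blk_mem_wreath2 hs.1 (one_mem _), ?_⟩,
    fun a ha => ⟨a⁻¹, blk_mem_wreath2 ha (inv_mem ha), ?_⟩⟩
  · refine MonoidHom.mem_ker.mpr ?_; rw [det_swapW h2, hz]
  · refine MonoidHom.mem_ker.mpr ?_; rw [det_blk, map_one, mul_one]
    exact hs.2
  · refine MonoidHom.mem_ker.mpr ?_; rw [det_blk, map_inv, mul_inv_cancel]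

theorem rigid_det [Nonempty ι] [Finite F] (h2 : (2 : F) ≠ 0) (hι : Even (Fintype.card ι))
    {G A : Subgroup (GL ι F)} (L : Level G A) {G₂ : Subgroup (GL (ι ⊕ ι) F)}
    (hG : ∀ a b, blk (a, b) ∈ G₂ → a ∈ G ∧ b ∈ G) :
    Rigid G₂ (wreath2 A ⊓ (GeneralLinearGroup.det : GL (ι ⊕ ι) F →* Fˣ).ker) :=
  (stepData_det h2 hι L).rigid h2 L.irrDet L.wit L.rigid hG

theorem wreath2_le {A : Subgroup (GL ι F)} {G₂ : Subgroup (GL (ι ⊕ ι) F)}
    (hA : ∀ a ∈ A, ∀ b ∈ A, blk (a, b) ∈ G₂) (hW : swapW F ι ∈ G₂) : wreath2 A ≤ G₂ := by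
  rintro _ ⟨a, ha, b, hb, rfl | rfl⟩
  exacts [hA a ha b hb, mul_mem (hA a ha b hb) hW]

theorem level_step [Nonempty ι] [Finite F] (h2 : (2 : F) ≠ 0) (hι : Even (Fintype.card ι))
    {G A : Subgroup (GL ι F)} (L : Level G A) {G₂ : Subgroup (GL (ι ⊕ ι) F)}
    (hG : ∀ a b, blk (a, b) ∈ G₂ → a ∈ G ∧ b ∈ G)
    (hblk : ∀ a ∈ A, ∀ b ∈ A, blk (a, b) ∈ G₂) (hW : swapW F ι ∈ G₂) : Level G₂ (wreath2 A) := by
  have hd := stepData_det h2 hι L
  have hneg : (-1 : GL (ι ⊕ ι) F) = blk ((-1 : GL ι F), (-1 : GL ι F)) := by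
    rw [← neg_blk, show ((1, 1) : GL ι F × GL ι F) = 1 from rfl, map_one]
  refine ⟨wreath2_le hblk hW, isPGroup_wreath2 L.two, hneg ▸ blk_mem_wreath2 L.neg L.neg,
    (hd.irr h2 L.irr).mono inf_le_left, hd.irr h2 L.irr,
    ⟨_, hd.neg, blk_one_neg_ne h2⟩, ?_⟩
  have hd0 : StepData A (A ⊓ (GeneralLinearGroup.det : GL ι F →* Fˣ).ker) (wreath2 A) :=
    ⟨isPGroup_wreath2 L.two, le_rfl, swapW_mem_wreath2 A, blk_mem_wreath2 (one_mem _) L.neg,
      fun s hs => blk_mem_wreath2 hs.1 (one_mem _), fun a ha => ⟨1, blk_mem_wreath2 ha (one_mem _)⟩⟩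
  exact hd0.rigid h2 L.irrDet L.wit L.rigid hG

theorem irr_of_not_commute {A : Subgroup (GL (Fin 2) F)} {a b : GL (Fin 2) F} (ha : a ∈ A) (hb : b ∈ A)
    (hab : a * b ≠ b * a) : Irr A := by
  intro M hM
  by_contra hne
  apply hab
  have Ea := hM a ha
  have Eb := hM b hb
  have a00 := congrFun (congrFun Ea 0) 0
  have a01 := congrFun (congrFun Ea 0) 1
  have a10 := congrFun (congrFun Ea 1) 0
  have b00 := congrFun (congrFun Eb 0) 0
  have b01 := congrFun (congrFun Eb 0) 1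
  have b10 := congrFun (congrFun Eb 1) 0
  simp [Matrix.mul_apply, Fin.sum_univ_two] at a00 a01 a10 b00 b01 b10
  have hm : M 0 1 ≠ 0 ∨ M 1 0 ≠ 0 ∨ M 0 0 - M 1 1 ≠ 0 := by
    by_contra h
    push Not at h
    refine hne ⟨M 0 0, ?_⟩
    ext i j
    fin_cases i <;> fin_cases j <;> simp [h.1, h.2.1, sub_eq_zero.mp h.2.2]
  have key : a.val 0 1 * b.val 1 0 = b.val 0 1 * a.val 1 0 ∧
      a.val 0 1 * (b.val 0 0 - b.val 1 1) = b.val 0 1 * (a.val 0 0 - a.val 1 1) ∧
      a.val 1 0 * (b.val 0 0 - b.val 1 1) = b.val 1 0 * (a.val 0 0 - a.val 1 1) := by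
    rcases hm with h | h | h
    · have k1 : a.val 0 1 * b.val 1 0 = b.val 0 1 * a.val 1 0 :=
        mul_left_cancel₀ h (by linear_combination a.val 0 1 * b00 - b.val 0 1 * a00)
      have k2 : a.val 0 1 * (b.val 0 0 - b.val 1 1) = b.val 0 1 * (a.val 0 0 - a.val 1 1) :=
        mul_left_cancel₀ h (by linear_combination -(a.val 0 1) * b01 + b.val 0 1 * a01)
      exact ⟨k1, k2, mul_left_cancel₀ h (by
        linear_combination M 1 0 * k2 - (M 0 0 - M 1 1) * k1 - a.val 0 1 * b10 - a.val 1 0 * b01 -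
          (a.val 0 0 - a.val 1 1) * b00)⟩
    · have k1 : a.val 0 1 * b.val 1 0 = b.val 0 1 * a.val 1 0 :=
        mul_left_cancel₀ h (by linear_combination a.val 1 0 * b00 - b.val 1 0 * a00)
      have k3 : a.val 1 0 * (b.val 0 0 - b.val 1 1) = b.val 1 0 * (a.val 0 0 - a.val 1 1) :=
        mul_left_cancel₀ h (by linear_combination a.val 1 0 * b10 - b.val 1 0 * a10)
      exact ⟨k1, mul_left_cancel₀ h (by
        linear_combination M 0 1 * k3 + (M 0 0 - M 1 1) * k1 + a.val 0 1 * b10 + a.val 1 0 * b01 +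
          (a.val 0 0 - a.val 1 1) * b00), k3⟩
    · have k2 : a.val 0 1 * (b.val 0 0 - b.val 1 1) = b.val 0 1 * (a.val 0 0 - a.val 1 1) :=
        mul_left_cancel₀ h (by
          linear_combination (b.val 0 0 - b.val 1 1) * a01 - (a.val 0 0 - a.val 1 1) * b01)
      have k3 : a.val 1 0 * (b.val 0 0 - b.val 1 1) = b.val 1 0 * (a.val 0 0 - a.val 1 1) :=
        mul_left_cancel₀ h (by
          linear_combination -(b.val 0 0 - b.val 1 1) * a10 + (a.val 0 0 - a.val 1 1) * b10)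
      exact ⟨mul_left_cancel₀ h (by
        linear_combination M 1 0 * k2 - M 0 1 * k3 - a.val 0 1 * b10 - a.val 1 0 * b01 -
          (a.val 0 0 - a.val 1 1) * b00), k2, k3⟩
  refine Units.ext (Matrix.ext fun i j => ?_)
  obtain ⟨k1, k2, k3⟩ := key
  fin_cases i <;> fin_cases j <;> simp [Matrix.mul_apply, Fin.sum_univ_two] <;>
    first
    | linear_combination k1
    | linear_combination -k1
    | linear_combination k2
    | linear_combination -k2
    | linear_combination k3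
    | linear_combination -k3

theorem det_eq_neg_one_of_involution (h2 : (2 : F) ≠ 0) {x : GL (Fin 2) F}
    (hx : x * x = 1) (h1 : x ≠ 1) (h1' : x ≠ -1) : (x.val).det = -1 := by
  have e := congrArg Units.val hx
  rw [Units.val_mul, Units.val_one] at e
  have e00 := congrFun (congrFun e 0) 0
  have e01 := congrFun (congrFun e 0) 1
  have e10 := congrFun (congrFun e 1) 0
  have e11 := congrFun (congrFun e 1) 1
  simp [Matrix.mul_apply, Fin.sum_univ_two] at e00 e01 e10 e11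
  rw [Matrix.det_fin_two]
  by_cases ht : x.val 0 0 + x.val 1 1 = 0
  · linear_combination -e00 + x.val 0 0 * ht
  exfalso
  have hb : x.val 0 1 = 0 :=
    (mul_eq_zero.mp (by linear_combination e01 : (x.val 0 0 + x.val 1 1) * x.val 0 1 = 0)).resolve_left ht
  have hc : x.val 1 0 = 0 :=
    (mul_eq_zero.mp (by linear_combination e10 : (x.val 0 0 + x.val 1 1) * x.val 1 0 = 0)).resolve_left ht
  have heq : x.val 0 0 = x.val 1 1 := sub_eq_zero.mp
    ((mul_eq_zero.mp (by linear_combination e00 - e11 :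
      (x.val 0 0 + x.val 1 1) * (x.val 0 0 - x.val 1 1) = 0)).resolve_left ht)
  rw [hb, zero_mul, add_zero, mul_self_eq_one_iff] at e00
  rcases e00 with h | h
  · exact h1 (Units.ext (Matrix.ext fun i j => by
      fin_cases i <;> fin_cases j <;> simp [hb, hc, h, ← heq]))
  · exact h1' (Units.ext (Matrix.ext fun i j => by
      fin_cases i <;> fin_cases j <;> simp [hb, hc, h, ← heq]))

/-- Dimension two, semidihedral Sylow subgroup. -/
theorem level_dihedral [Finite F] (h2 : (2 : F) ≠ 0) {G : Subgroup (GL (Fin 2) F)} {m : ℕ} (hm : 3 ≤ m)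
    {c x : GL (Fin 2) F} (hcG : c ∈ G) (hxG : x ∈ G) (hc : orderOf c = 2 ^ m) (hx : x * x = 1)
    (hxc : x * c * x⁻¹ = c ^ (2 ^ (m - 1) - 1)) :
    ∃ A, Level G A ∧ Nat.card A = 2 ^ (m + 1) := by
  haveI : Fact (Nat.Prime 2) := ⟨Nat.prime_two⟩
  set r := 2 ^ (m - 1) - 1 with hr
  have hm' : 2 ^ m = 2 * 2 ^ (m - 1) := by rw [← pow_succ', Nat.sub_add_cancel (by omega)]
  have h4 : 4 ≤ 2 ^ (m - 1) := le_trans (by norm_num) (Nat.pow_le_pow_right two_pos (show 2 ≤ m - 1 by omega))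
  have hpow : ∀ {i : ℕ}, c ^ i = 1 → 2 ^ m ∣ i := fun h => hc ▸ orderOf_dvd_of_pow_eq_one h
  have hxi : x⁻¹ = x := inv_eq_of_mul_eq_one_right hx
  have hswap : ∀ i : ℕ, x * c ^ i = c ^ (r * i) * x := by
    intro i
    rw [pow_mul, ← hxc, conj_pow, inv_mul_cancel_right]
  have hncomm : ∀ i : ℕ, ¬ 2 ^ (m - 1) ∣ i → x * c ^ i ≠ c ^ i * x := by
    intro i hi h
    rw [hswap] at h
    have h' := mul_right_cancel h
    rw [pow_eq_pow_iff_modEq, hc] at h'
    have h'' : (2 ^ (m - 1) * i) ≡ 2 * i [MOD 2 ^ m] := by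
      have := h'.add_right i
      rw [show r * i + i = (r + 1) * i by ring, show r + 1 = 2 ^ (m - 1) by omega, ← two_mul] at this
      exact this
    have h3 : 2 ∣ i := by
      have h5 := h''.of_dvd (show 2 ^ (m - 1) ∣ 2 ^ m from pow_dvd_pow 2 (by omega))
      have h6 : 2 ^ (m - 1) ∣ 2 * i := Nat.modEq_zero_iff_dvd.mp
        (h5.symm.trans (Nat.modEq_zero_iff_dvd.mpr (dvd_mul_right _ _)))
      have h7 : 4 ∣ 2 * i := (pow_dvd_pow 2 (show 2 ≤ m - 1 by omega)).trans h6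
      omega
    obtain ⟨j, rfl⟩ := h3
    have h8 : 2 ^ m ∣ 2 * (2 * j) := Nat.modEq_zero_iff_dvd.mp
      (h''.symm.trans (Nat.modEq_zero_iff_dvd.mpr ⟨j, by rw [hm']; ring⟩))
    rw [hm'] at h8
    exact hi (Nat.dvd_of_mul_dvd_mul_left two_pos h8)
  have hxne : ∀ i : ℕ, x ≠ c ^ i := fun i h => hncomm 1 (fun h1 => by
    have := Nat.le_of_dvd one_pos h1; omega)
    (by rw [pow_one, h, ← pow_succ, ← pow_succ'])
  let A : Subgroup (GL (Fin 2) F) := subgroupOfSubmonoid
    { carrier := {g | ∃ i : ℕ, g = c ^ i ∨ g = c ^ i * x}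
      one_mem' := ⟨0, Or.inl (pow_zero c).symm⟩
      mul_mem' := by
        rintro _ _ ⟨i, rfl | rfl⟩ ⟨j, rfl | rfl⟩
        · exact ⟨i + j, Or.inl (pow_add c i j).symm⟩
        · exact ⟨i + j, Or.inr (by rw [← mul_assoc, ← pow_add])⟩
        · exact ⟨i + r * j, Or.inr (by rw [mul_assoc, hswap, ← mul_assoc, ← pow_add])⟩
        · exact ⟨i + r * j, Or.inl (by
            rw [mul_assoc (c ^ i), ← mul_assoc x, hswap, mul_assoc (c ^ (r * j)), hx, mul_one, ← pow_add])⟩ }
  have hcA : c ∈ A := ⟨1, Or.inl (pow_one c).symm⟩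
  have hxA : x ∈ A := ⟨0, Or.inr (by rw [pow_zero, one_mul])⟩
  have hcard : Nat.card A = 2 ^ (m + 1) := by
    rw [pow_succ', ← hc, ← Nat.card_zpowers,
      show 2 * Nat.card (Subgroup.zpowers c) = Nat.card (Bool × Subgroup.zpowers c) by rw [Nat.card_prod]; simp]
    refine (Nat.card_congr (Equiv.ofBijective
      (fun q : Bool × Subgroup.zpowers c => (⟨if q.1 then q.2.1 * x else q.2.1, by
        obtain ⟨s, _, hy⟩ := q
        obtain ⟨i, rfl⟩ := mem_powers_iff_mem_zpowers.mpr hy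
        cases s
        · exact pow_mem hcA i
        · exact mul_mem (pow_mem hcA i) hxA⟩ : A)) ⟨?_, ?_⟩)).symm
    · rintro ⟨s, a, ha⟩ ⟨s', b, hb⟩ h
      have h' := congrArg Subtype.val h
      obtain ⟨i, rfl⟩ := mem_powers_iff_mem_zpowers.mpr ha
      obtain ⟨j, rfl⟩ := mem_powers_iff_mem_zpowers.mpr hb
      cases s <;> cases s' <;> simp only [Bool.false_eq_true, if_false, if_true] at h'
      · exact Prod.ext rfl (Subtype.ext h')
      · exfalso
        obtain ⟨k, hk⟩ := mem_powers_iff_mem_zpowers.mpr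
          (mul_mem (inv_mem hb) ha : (c ^ j)⁻¹ * c ^ i ∈ Subgroup.zpowers c)
        exact hxne k (eq_inv_mul_of_mul_eq h'.symm |>.trans hk.symm)
      · exfalso
        obtain ⟨k, hk⟩ := mem_powers_iff_mem_zpowers.mpr
          (mul_mem (inv_mem ha) hb : (c ^ i)⁻¹ * c ^ j ∈ Subgroup.zpowers c)
        exact hxne k (eq_inv_mul_of_mul_eq h' |>.trans hk.symm)
      · exact Prod.ext rfl (Subtype.ext (mul_right_cancel h'))
    · rintro ⟨_, i, rfl | rfl⟩
      · exact ⟨(false, ⟨c ^ i, ⟨i, zpow_natCast c i⟩⟩), rfl⟩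
      · exact ⟨(true, ⟨c ^ i, ⟨i, zpow_natCast c i⟩⟩), rfl⟩
  have hcx : x * c ≠ c * x := by
    simpa using hncomm 1 (fun h1 => by have := Nat.le_of_dvd one_pos h1; omega)
  have hirr : Irr A := irr_of_not_commute hxA hcA hcx
  set e := c ^ 2 ^ (m - 1) with he
  have he1 : e ≠ 1 := fun h => by
    have := Nat.le_of_dvd (by positivity) (hpow h)
    omega
  have hee : e * e = 1 := by
    rw [he, ← pow_add, ← two_mul, ← hm', ← hc, pow_orderOf_eq_one]
  have hex : x * e = e * x := by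
    rw [he, hswap]
    congr 1
    rw [pow_eq_pow_iff_modEq, hc]
    obtain ⟨j, hj⟩ : ∃ j, r = 2 * j + 1 := by
      refine ⟨2 ^ (m - 2) - 1, ?_⟩
      have : 2 ^ (m - 1) = 2 * 2 ^ (m - 2) := by rw [← pow_succ']; congr 1; omega
      omega
    rw [hj, show (2 * j + 1) * 2 ^ (m - 1) = 2 ^ m * j + 2 ^ (m - 1) by rw [hm']; ring]
    exact Nat.modEq_iff_dvd.mpr ⟨-(j : ℤ), by push_cast; ring⟩
  have heA : e ∈ A := pow_mem hcA _
  have heneg : e = -1 := by
    obtain ⟨l, hl⟩ := hirr e.val fun a ha => by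
      rw [← Units.val_mul, ← Units.val_mul]
      refine congrArg Units.val ?_
      obtain ⟨i, rfl | rfl⟩ := ha
      · rw [he, ← pow_add, ← pow_add, add_comm]
      · rw [← mul_assoc, he, ← pow_add, add_comm, pow_add, mul_assoc, mul_assoc, ← he, hex]
    have h0 : e.val * e.val = (1 : Matrix (Fin 2) (Fin 2) F) := by rw [← Units.val_mul, hee, Units.val_one]
    have h := congrFun (congrFun h0 0) 0
    rw [hl, smul_mul_smul_comm, Matrix.mul_one] at h
    simp at h
    rcases mul_self_eq_one_iff.mp h with h' | h'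
    · exact absurd (Units.ext (by rw [hl, h', one_smul, Units.val_one])) he1
    · exact Units.ext (by rw [hl, h', neg_one_smul, Units.val_neg, Units.val_one])
  have hx1 : x ≠ 1 := fun h => hxne 0 (by rw [h, pow_zero])
  have hx1' : x ≠ -1 := fun h => hxne (2 ^ (m - 1)) (by rw [← he, heneg, h])
  have hdx : GeneralLinearGroup.det x = -1 := Units.ext (by
    rw [GeneralLinearGroup.val_det_apply, det_eq_neg_one_of_involution h2 hx hx1 hx1']; simp)
  have hdc : GeneralLinearGroup.det c = -1 := by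
    have hy2 : (c * x) * (c * x) = -1 := by
      rw [mul_assoc c, ← mul_assoc x, show x * c = c ^ r * x by simpa using hswap 1, mul_assoc, hx,
        mul_one, ← pow_succ', show r + 1 = 2 ^ (m - 1) by omega, ← he, heneg]
    have e := congrArg Units.val hy2
    rw [Units.val_mul (c * x), Units.val_neg, Units.val_one] at e
    set Y := (c * x).val with hY
    have e00 := congrFun (congrFun e 0) 0
    have e01 := congrFun (congrFun e 0) 1
    have e10 := congrFun (congrFun e 1) 0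
    have e11 := congrFun (congrFun e 1) 1
    simp [Matrix.mul_apply, Fin.sum_univ_two] at e00 e01 e10 e11
    have hdY : Y.det = 1 := by
      rw [Matrix.det_fin_two]
      by_cases ht : Y 0 0 + Y 1 1 = 0
      · linear_combination -e00 + Y 0 0 * ht
      exfalso
      have hb : Y 0 1 = 0 :=
        (mul_eq_zero.mp (by linear_combination e01 : (Y 0 0 + Y 1 1) * Y 0 1 = 0)).resolve_left ht
      have hc' : Y 1 0 = 0 :=
        (mul_eq_zero.mp (by linear_combination e10 : (Y 0 0 + Y 1 1) * Y 1 0 = 0)).resolve_left ht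
      have heq : Y 0 0 = Y 1 1 := sub_eq_zero.mp
        ((mul_eq_zero.mp (by linear_combination e00 - e11 :
          (Y 0 0 + Y 1 1) * (Y 0 0 - Y 1 1) = 0)).resolve_left ht)
      have hY' : Y = Y 0 0 • (1 : Matrix (Fin 2) (Fin 2) F) := by
        ext i j; fin_cases i <;> fin_cases j <;> simp [hb, hc', heq]
      refine hcx (Units.ext ?_)
      rw [Units.val_mul, Units.val_mul]
      have hYc : Y * c.val = c.val * Y := by rw [hY', smul_mul_assoc, mul_smul_comm, Matrix.one_mul, Matrix.mul_one]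
      rw [hY, Units.val_mul, Matrix.mul_assoc] at hYc
      have := congrArg ((c⁻¹).val * ·) hYc
      simpa [← Matrix.mul_assoc] using this
    have : GeneralLinearGroup.det (c * x) = 1 :=
      Units.ext (by rw [GeneralLinearGroup.val_det_apply, Units.val_one]; exact hdY)
    rw [map_mul, hdx, mul_neg, mul_one, neg_eq_iff_eq_neg] at this
    exact this
  have hc2 : c ^ 2 ∈ A ⊓ (GeneralLinearGroup.det : GL (Fin 2) F →* Fˣ).ker :=
    ⟨pow_mem hcA 2, by refine MonoidHom.mem_ker.mpr ?_; rw [map_pow, hdc, neg_one_sq]⟩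
  refine ⟨A, ⟨?_, IsPGroup.of_card hcard, heneg ▸ heA, hirr, ?_, ⟨c ^ 2, hc2, ?_, ?_⟩, ?_⟩, hcard⟩
  · rintro _ ⟨i, rfl | rfl⟩
    exacts [pow_mem hcG i, mul_mem (pow_mem hcG i) hxG]
  · refine irr_of_not_commute (a := c * x) (b := c ^ 2)
      ⟨mul_mem hcA hxA, by refine MonoidHom.mem_ker.mpr ?_; rw [map_mul, hdc, hdx, neg_mul_neg, one_mul]⟩ hc2 fun h => ?_
    refine hncomm 2 (fun h1 => by have := Nat.le_of_dvd two_pos h1; omega) (mul_left_cancel (a := c) ?_)
    rw [← mul_assoc, h, ← mul_assoc, ← mul_assoc, ← pow_succ, ← pow_succ']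
  · intro h
    have := Nat.le_of_dvd two_pos (hpow h)
    omega
  · intro h
    have h4' : c ^ 4 = 1 := by rw [show 4 = 2 + 2 from rfl, pow_add, h, neg_mul_neg, one_mul]
    have := Nat.le_of_dvd (by norm_num) (hpow h4')
    omega
  · intro g _ hgo hn
    obtain ⟨i, hi⟩ : ∃ i : ℕ, g * c * g⁻¹ = c ^ i := by
      obtain ⟨i, h | h⟩ := hn c hcA
      · exact ⟨i, h⟩
      · exfalso
        have h' : (c ^ i * x) ^ 4 = 1 := by
          rw [show 4 = 2 * 2 from rfl, pow_mul, pow_two (c ^ i * x), mul_assoc (c ^ i), ← mul_assoc x,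
            hswap, mul_assoc (c ^ (r * i)), hx, mul_one, ← pow_add,
            show i + r * i = 2 ^ (m - 1) * i by rw [← show r + 1 = 2 ^ (m - 1) by omega]; ring,
            pow_mul c, ← he, ← pow_mul, mul_comm i 2, pow_mul, pow_two, hee, one_pow]
        rw [← h, conj_pow, conj_eq_one_iff] at h'
        have := Nat.le_of_dvd (by norm_num) (hpow h')
        omega
    have hgpow : ∀ k : ℕ, g ^ k * c * (g ^ k)⁻¹ = c ^ i ^ k := by
      intro k
      induction k with
      | zero => simp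
      | succ k ih =>
        rw [pow_succ', show g * g ^ k * c * (g * g ^ k)⁻¹ = g * (g ^ k * c * (g ^ k)⁻¹) * g⁻¹ by group,
          ih, ← conj_pow, hi, ← pow_mul, pow_succ']
    set n := orderOf g with hn'
    have hin : i ^ n ≡ 1 [MOD 2 ^ m] := by
      have := hgpow n
      rw [hn', pow_orderOf_eq_one, one_mul, inv_one, mul_one, ← hn'] at this
      rw [← hc, ← pow_eq_pow_iff_modEq, pow_one]
      exact this.symm
    have hgc : g * c * g⁻¹ = c := by
      haveI : NeZero (2 ^ m) := ⟨pow_ne_zero _ two_ne_zero⟩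
      have hn0 : n ≠ 0 := hgo.pos.ne'
      have hz : ((i : ℕ) : ZMod (2 ^ m)) ^ n = 1 := by
        rw [← Nat.cast_pow, ← Nat.cast_one, ZMod.natCast_eq_natCast_iff]
        exact hin
      let u : (ZMod (2 ^ m))ˣ := Units.ofPowEqOne _ n hz hn0
      have hun : u ^ n = 1 := Units.ext (by rw [Units.val_pow_eq_pow_val]; exact hz)
      have hu1 : u = 1 := by
        have h1 : orderOf u ∣ n := orderOf_dvd_of_pow_eq_one hun
        have h2' : orderOf u ∣ 2 ^ (m - 1) := by
          have := orderOf_dvd_natCard u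
          rw [Nat.card_eq_fintype_card, ZMod.card_units_eq_totient,
            Nat.totient_prime_pow Nat.prime_two (by omega)] at this
          simpa using this
        rw [← orderOf_eq_one_iff]
        have hco : Nat.Coprime (2 ^ (m - 1)) n :=
          Nat.Coprime.pow_left _ (Nat.coprime_two_left.mpr hgo)
        exact Nat.eq_one_of_dvd_coprimes hco h2' h1
      have hi1 : ((i : ℕ) : ZMod (2 ^ m)) = 1 := by
        have := congrArg Units.val hu1
        simpa [u] using this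
      rw [hi]
      nth_rw 2 [← pow_one c]
      rw [pow_eq_pow_iff_modEq, hc, ← ZMod.natCast_eq_natCast_iff, hi1, Nat.cast_one]
    have hgc' : Commute g c := mul_inv_eq_iff_eq_mul.mp hgc
    obtain ⟨l, hl⟩ : ∃ l : ℕ, g * x * g⁻¹ = c ^ l * x := by
      obtain ⟨l, h | h⟩ := hn x hxA
      · exfalso
        have h' : g⁻¹ * c ^ l * g = c ^ l := by
          rw [mul_assoc, ← (hgc'.pow_right l).eq, inv_mul_cancel_left]
        exact hxne l (by rw [← h', ← h]; group)
      · exact ⟨l, h⟩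
    have hgl : ∀ k : ℕ, g ^ k * x * (g ^ k)⁻¹ = c ^ (k * l) * x := by
      intro k
      induction k with
      | zero => simp
      | succ k ih =>
        rw [pow_succ', show g * g ^ k * x * (g * g ^ k)⁻¹ = g * (g ^ k * x * (g ^ k)⁻¹) * g⁻¹ by group,
          ih, ← mul_assoc g, (hgc'.pow_right (k * l)).eq, mul_assoc (c ^ (k * l)), mul_assoc (c ^ (k * l)),
          hl, ← mul_assoc, ← pow_add, Nat.succ_mul]
    have hnl : c ^ (n * l) = 1 := by
      have := hgl n
      rw [hn', pow_orderOf_eq_one, one_mul, inv_one, mul_one, ← hn'] at this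
      exact mul_eq_right.mp this.symm
    have hl0 : c ^ l = 1 := by
      rw [← orderOf_dvd_iff_pow_eq_one, hc]
      exact (Nat.Coprime.pow_left _ (Nat.coprime_two_left.mpr hgo)).dvd_of_dvd_mul_left (hpow hnl)
    have hgx : Commute g x := mul_inv_eq_iff_eq_mul.mp (by rw [hl, hl0, one_mul])
    refine hirr g.val fun a ha => ?_
    rw [← Units.val_mul, ← Units.val_mul]
    obtain ⟨j, rfl | rfl⟩ := ha
    · rw [(hgc'.pow_right j).eq]
    · rw [((hgc'.pow_right j).mul_right hgx).eq]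

/-- Dimension two, wreathed Sylow subgroup. -/
theorem level_wreathed [Finite F] (h2 : (2 : F) ≠ 0) {G₂ : Subgroup (GL (Fin 1 ⊕ Fin 1) F)}
    {ε : Fˣ} {a : ℕ} (ha : 2 ≤ a) (hε : orderOf ε = 2 ^ a)
    (hblk : ∀ u v : Subgroup.zpowers ε,
      blk (Units.map (Matrix.scalar (Fin 1)).toMonoidHom (u : Fˣ),
        Units.map (Matrix.scalar (Fin 1)).toMonoidHom (v : Fˣ)) ∈ G₂)
    (hW : swapW F (Fin 1) ∈ G₂) :
    ∃ A, Level G₂ A ∧ Nat.card A = 2 ^ (2 * a + 1) := by
  haveI : Fact (Nat.Prime 2) := ⟨Nat.prime_two⟩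
  set sc : Fˣ →* GL (Fin 1) F := Units.map (Matrix.scalar (Fin 1)).toMonoidHom with hsc
  have hscinj : Function.Injective sc := fun u v h => by
    have e := congrArg Units.val h
    have := congrFun (congrFun e 0) 0
    exact Units.ext (by simpa [sc] using this)
  set A₁ := Subgroup.zpowers (sc ε) with hA₁
  have hcard₁ : Nat.card A₁ = 2 ^ a := by rw [hA₁, Nat.card_zpowers, orderOf_injective sc hscinj, hε]
  have hone : ∀ M : Matrix (Fin 1) (Fin 1) F, ∃ r : F, M = r • (1 : Matrix (Fin 1) (Fin 1) F) := fun M =>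
    ⟨M 0 0, Matrix.ext fun i j => by rw [Subsingleton.elim i 0, Subsingleton.elim j 0]; simp⟩
  have hirr₁ : Irr A₁ := fun M _ => hone M
  have hrig₁ : Rigid ⊤ A₁ := fun g _ _ _ => hone g.val
  set i₄ := ε ^ 2 ^ (a - 2) with hi₄
  have hp : 2 ^ a = 2 ^ (a - 2) * 4 := by
    rw [show (4 : ℕ) = 2 ^ 2 from rfl, ← pow_add, Nat.sub_add_cancel ha]
  have ho4 : orderOf i₄ = 4 := by
    rw [hi₄, orderOf_pow_of_dvd (pow_ne_zero _ two_ne_zero) (by rw [hε, hp]; exact dvd_mul_right _ _), hε,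
      hp, Nat.mul_div_cancel_left _ (Nat.two_pow_pos _)]
  have hi_sq : i₄ * i₄ ≠ 1 := fun h => by
    have := Nat.le_of_dvd two_pos (ho4 ▸ orderOf_dvd_of_pow_eq_one (by rwa [pow_two] : i₄ ^ 2 = 1))
    omega
  have hnegε : (-1 : Fˣ) = i₄ * i₄ := by
    have h : (i₄ * i₄) * (i₄ * i₄) = 1 := by
      have h4 := pow_orderOf_eq_one i₄
      rw [ho4] at h4
      rw [← h4]
      simp [pow_succ, mul_assoc]
    have h' : ((i₄ * i₄ : Fˣ) : F) * ((i₄ * i₄ : Fˣ) : F) = 1 := by
      rw [← Units.val_mul, h, Units.val_one]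
    rcases mul_self_eq_one_iff.mp h' with e | e
    · exact absurd (Units.ext e) hi_sq
    · exact Units.ext (by rw [Units.val_neg, Units.val_one]; exact e.symm)
  have hi : sc i₄ ∈ A₁ := by rw [hi₄, map_pow]; exact pow_mem (Subgroup.mem_zpowers _) _
  have hneg₁ : (-1 : GL (Fin 1) F) ∈ A₁ := by
    have : sc (-1) ∈ A₁ := by rw [hnegε, map_mul]; exact mul_mem hi hi
    convert this using 1
    refine Units.ext (Matrix.ext fun k l => ?_)
    rw [Subsingleton.elim k 0, Subsingleton.elim l 0]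
    simp [sc]
  have hwit : sc i₄ ≠ 1 ∧ sc i₄ ≠ -1 := by
    constructor
    · intro h
      rw [← map_one sc] at h
      exact hi_sq (by rw [hscinj h, one_mul])
    · intro h
      have h' : sc (i₄ * i₄) = 1 := by rw [map_mul, h, neg_mul_neg, one_mul]
      rw [← map_one sc] at h'
      exact hi_sq (hscinj h')
  have hd0 : StepData A₁ A₁ (wreath2 A₁) :=
    ⟨isPGroup_wreath2 (IsPGroup.of_card hcard₁), le_rfl, swapW_mem_wreath2 A₁,
      blk_mem_wreath2 (one_mem _) hneg₁, fun s hs => blk_mem_wreath2 hs (one_mem _),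
      fun x hx => ⟨1, blk_mem_wreath2 hx (one_mem _)⟩⟩
  have hle : wreath2 A₁ ≤ G₂ := wreath2_le (fun x hx y hy => by
    obtain ⟨k, rfl⟩ := hx
    obtain ⟨l, rfl⟩ := hy
    simp only [← map_zpow]
    exact hblk ⟨_, k, rfl⟩ ⟨_, l, rfl⟩) hW
  have hdet1 : ∀ u v : Fˣ, GeneralLinearGroup.det (blk (sc u, sc v)) = u * v := fun u v => by
    rw [det_blk]
    congr 1 <;> exact Units.ext (by simp [sc])
  set s := blk (sc i₄, sc i₄⁻¹) with hs
  have hsdet : s ∈ wreath2 A₁ ⊓ (GeneralLinearGroup.det : GL (Fin 1 ⊕ Fin 1) F →* Fˣ).ker :=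
    ⟨blk_mem_wreath2 hi (by rw [map_inv]; exact inv_mem hi),
      by refine MonoidHom.mem_ker.mpr ?_; rw [hs, hdet1, mul_inv_cancel]⟩
  refine ⟨wreath2 A₁, ⟨hle, isPGroup_wreath2 (IsPGroup.of_card hcard₁), ?_, hd0.irr h2 hirr₁, ?_,
    ⟨s, hsdet, ?_, ?_⟩, hd0.rigid h2 hirr₁ ⟨_, hi, hwit⟩ hrig₁ fun _ _ _ => ⟨trivial, trivial⟩⟩, ?_⟩
  · rw [show (-1 : GL (Fin 1 ⊕ Fin 1) F) = blk ((-1 : GL (Fin 1) F), (-1 : GL (Fin 1) F)) by
      rw [← neg_blk, show ((1, 1) : GL (Fin 1) F × GL (Fin 1) F) = 1 from rfl, map_one]]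
    exact blk_mem_wreath2 hneg₁ hneg₁
  · intro M hM
    set t := blk ((1 : GL (Fin 1) F), (-1 : GL (Fin 1) F)) * swapW F (Fin 1) with ht
    have htdet : t ∈ wreath2 A₁ ⊓ (GeneralLinearGroup.det : GL (Fin 1 ⊕ Fin 1) F →* Fˣ).ker :=
      ⟨mul_mem (blk_mem_wreath2 (one_mem _) hneg₁) (swapW_mem_wreath2 A₁), by
        refine MonoidHom.mem_ker.mpr ?_; rw [ht, map_mul, det_swapW h2, det_blk, map_one, one_mul]
        exact Units.ext (by simp)⟩
    have h1 := hM s hsdet
    have h2' := hM t htdet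
    rw [hs, blk_val, ← fromBlocks_toBlocks M, fromBlocks_multiply, fromBlocks_multiply, fromBlocks_inj] at h1
    rw [ht, Units.val_mul, blk_val, swapW_val, fromBlocks_multiply, ← fromBlocks_toBlocks M,
      fromBlocks_multiply, fromBlocks_multiply, fromBlocks_inj] at h2'
    obtain ⟨r, hr⟩ := hone M.toBlocks₁₁
    obtain ⟨r12, hr12⟩ := hone M.toBlocks₁₂
    obtain ⟨r21, hr21⟩ := hone M.toBlocks₂₁
    obtain ⟨r22, hr22⟩ := hone M.toBlocks₂₂
    rw [hr12, hr21] at h1
    rw [hr, hr12, hr21, hr22] at h2'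
    have e12 := congrFun (congrFun h1.2.1 0) 0
    have e21 := congrFun (congrFun h1.2.2.1 0) 0
    have e11 := congrFun (congrFun h2'.2.1 0) 0
    simp [sc] at e12 e21 e11
    have hne : (i₄ : F) - (i₄ : F)⁻¹ ≠ 0 := fun h => hi_sq (Units.ext (by
      rw [Units.val_mul, Units.val_one, ← sub_eq_zero.mp (sub_eq_zero.mpr rfl : (1 : F) - 1 = 0)]
      nth_rw 2 [sub_eq_zero.mp h]
      exact mul_inv_cancel₀ (Units.ne_zero i₄)))
    have z12 : r12 = 0 := e12.resolve_left fun e => hne (by rw [e, sub_self])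
    have z21 : r21 = 0 := e21.resolve_left fun e => hne (by rw [← e, sub_self])
    have z22 : r22 = r := e11.symm
    refine ⟨r, ?_⟩
    conv_lhs => rw [← fromBlocks_toBlocks M, hr, hr12, hr21, hr22, z12, z21, z22, zero_smul]
    rw [← fromBlocks_one, fromBlocks_smul, smul_zero]
  · intro h
    rw [hs, ← map_one blk] at h
    exact hwit.1 (congrArg Prod.fst (blk_inj h))
  · intro h
    rw [hs, show (-1 : GL (Fin 1 ⊕ Fin 1) F) = blk ((-1 : GL (Fin 1) F), (-1 : GL (Fin 1) F)) by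
      rw [← neg_blk, show ((1, 1) : GL (Fin 1) F × GL (Fin 1) F) = 1 from rfl, map_one]] at h
    exact hwit.2 (congrArg Prod.fst (blk_inj h))
  · rw [card_wreath2, hcard₁, ← pow_mul, ← pow_succ', mul_comm a]

end Cfsg.Agent.PronormalOdd
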