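/-
Odd characteristic: subgroups of odd index of `SL_n(q)` and `SU_n(q)` are pronormal for `n = 2 ^ w ≥ 4`.

* `Fam` : a family of groups compatible with the block decomposition
* `Fam.allPron` : the induction
* `allPron_SL_odd`, `allPron_SU_odd`
-/
import Cfsg.Agent.Lib.PronormalOdd.TowerBase
import Cfsg.Agent.Lib.WreathAb.Linear
import Cfsg.Agent.Lib.Unitary.Count
import Cfsg.Agent.Lib.Unitary.Group
import Cfsg.Agent.S1218

set_option autoImplicit false

namespace Cfsg.Agent.PronormalOdd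

open Matrix Cfsg.Agent.S4270

section General

variable {F : Type*} [Field F] {ι κ : Type} [Fintype ι] [DecidableEq ι] [Fintype κ] [DecidableEq κ]

/-- Renaming the coordinates. -/
def reGL (e : ι ≃ κ) : GL ι F ≃* GL κ F :=
  Units.mapEquiv (Matrix.reindexAlgEquiv F F e).toMulEquiv

theorem reGL_val (e : ι ≃ κ) (g : GL ι F) : (reGL e g).val = Matrix.reindex e e g.val := rfl

theorem det_reGL (e : ι ≃ κ) (g : GL ι F) :
    GeneralLinearGroup.det (reGL e g) = GeneralLinearGroup.det g :=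
  Units.ext (by
    rw [GeneralLinearGroup.val_det_apply, GeneralLinearGroup.val_det_apply, reGL_val]
    exact Matrix.det_reindex_self e g.val)

end General

/-- A family of groups compatible with block decompositions. -/
structure Fam (F : Type*) [Field F] where
  grp : ∀ (ι : Type) [Fintype ι] [DecidableEq ι], Subgroup (GL ι F)
  blk_iff : ∀ (ι : Type) [Fintype ι] [DecidableEq ι] (a b : GL ι F),
    blk (a, b) ∈ grp (ι ⊕ ι) ↔ a ∈ grp ι ∧ b ∈ grp ι
  swap_mem : ∀ (ι : Type) [Fintype ι] [DecidableEq ι], swapW F ι ∈ grp (ι ⊕ ι)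
  reindex : ∀ (ι κ : Type) [Fintype ι] [DecidableEq ι] [Fintype κ] [DecidableEq κ] (e : ι ≃ κ)
    (g : GL ι F), g ∈ grp ι → reGL e g ∈ grp κ

namespace Fam

variable {F : Type*} [Field F] (𝓕 : Fam F) {ι κ : Type} [Fintype ι] [DecidableEq ι] [Fintype κ] [DecidableEq κ]

theorem mem_iff (e : ι ≃ κ) (g : GL ι F) : reGL e g ∈ 𝓕.grp κ ↔ g ∈ 𝓕.grp ι := by
  refine ⟨fun h => ?_, 𝓕.reindex ι κ e g⟩
  have h' := 𝓕.reindex κ ι e.symm _ h
  rwa [show reGL e.symm (reGL e g) = g from Units.ext (by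
    rw [reGL_val, reGL_val]
    ext i j
    simp)] at h'

theorem card_eq (e : ι ≃ κ) : Nat.card (𝓕.grp ι) = Nat.card (𝓕.grp κ) :=
  Nat.card_congr (Equiv.subtypeEquiv (reGL e).toEquiv fun g => (𝓕.mem_iff e g).symm)

variable [Finite F]

theorem exists_level (h2 : (2 : F) ≠ 0) {N : ℕ}
    (base : ∃ (ι : Type) (_ : Fintype ι) (_ : DecidableEq ι) (A : Subgroup (GL ι F)),
      Fintype.card ι = 2 ∧ Level (𝓕.grp ι) A ∧ Nat.card A = 2 ^ N) (j : ℕ) :
    ∃ (ι : Type) (_ : Fintype ι) (_ : DecidableEq ι) (A : Subgroup (GL ι F)),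
      Fintype.card ι = 2 ^ (j + 1) ∧ Level (𝓕.grp ι) A ∧ Nat.card A = 2 ^ (2 ^ j * N + 2 ^ j - 1) := by
  induction j with
  | zero =>
    obtain ⟨ι, i1, i2, A, hc, L, hA⟩ := base
    exact ⟨ι, i1, i2, A, by simpa using hc, L, by rw [hA]; congr 1; simp⟩
  | succ j ih =>
    obtain ⟨ι, i1, i2, A, hc, L, hA⟩ := ih
    haveI : Nonempty ι := Fintype.card_pos_iff.mp (by rw [hc]; positivity)
    refine ⟨ι ⊕ ι, inferInstance, inferInstance, wreath2 A, by rw [Fintype.card_sum, hc]; ring,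
      level_step h2 (by rw [hc, pow_succ]; exact even_two.mul_left _) L
        (fun a b h => (𝓕.blk_iff ι a b).mp h)
        (fun a ha b hb => (𝓕.blk_iff ι a b).mpr ⟨L.le ha, L.le hb⟩) (𝓕.swap_mem ι), ?_⟩
    rw [card_wreath2, hA, ← pow_mul, ← pow_succ']
    congr 1
    have : 1 ≤ 2 ^ j := Nat.one_le_two_pow
    rw [pow_succ]
    have h : 2 ^ j * 2 * N = 2 * (2 ^ j * N) := by ring
    omega

/-- The induction: the determinant one part of `grp`. -/
theorem allPron (h2 : (2 : F) ≠ 0) {N : ℕ}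
    (base : ∃ (ι : Type) (_ : Fintype ι) (_ : DecidableEq ι) (A : Subgroup (GL ι F)),
      Fintype.card ι = 2 ∧ Level (𝓕.grp ι) A ∧ Nat.card A = 2 ^ N)
    (j : ℕ)
    (hv : (Nat.card (𝓕.grp (Fin (2 ^ (j + 2))))).factorization 2 = 2 ^ (j + 1) * N + 2 ^ (j + 1) - 1)
    {Γ : Type*} [Group Γ] [Finite Γ] (f : Γ →* GL (Fin (2 ^ (j + 2))) F) (hf : Function.Injective f)
    (hr : f.range = 𝓕.grp (Fin (2 ^ (j + 2))) ⊓ (GeneralLinearGroup.det : GL (Fin (2 ^ (j + 2))) F →* Fˣ).ker) :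
    AllPron 2 Γ := by
  haveI : Fact (Nat.Prime 2) := ⟨Nat.prime_two⟩
  obtain ⟨ι, i1, i2, A, hc, L, hA⟩ := 𝓕.exists_level h2 base j
  haveI : Nonempty ι := Fintype.card_pos_iff.mp (by rw [hc]; positivity)
  have hι : Even (Fintype.card ι) := by rw [hc, pow_succ]; exact even_two.mul_left _
  let e : ι ⊕ ι ≃ Fin (2 ^ (j + 2)) :=
    Fintype.equivFinOfCardEq (by rw [Fintype.card_sum, hc]; ring)
  set φ : Γ →* GL (ι ⊕ ι) F := (reGL e).symm.toMonoidHom.comp f with hφdef
  have hφ : Function.Injective φ := (reGL e).symm.injective.comp hf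
  set G₂ := 𝓕.grp (ι ⊕ ι)
  set K := G₂ ⊓ (GeneralLinearGroup.det : GL (ι ⊕ ι) F →* Fˣ).ker with hK
  have hrange : φ.range = K := by
    ext g
    have hg : g ∈ φ.range ↔ reGL e g ∈ f.range := by
      constructor
      · rintro ⟨x, rfl⟩
        exact ⟨x, by simp [hφdef]⟩
      · rintro ⟨x, hx⟩
        exact ⟨x, by simp [hφdef, hx]⟩
    rw [hg, hr, hK, Subgroup.mem_inf, Subgroup.mem_inf, 𝓕.mem_iff, MonoidHom.mem_ker, MonoidHom.mem_ker,
      det_reGL]
  set S₀ := wreath2 A
  set S := S₀ ⊓ (GeneralLinearGroup.det : GL (ι ⊕ ι) F →* Fˣ).ker with hS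
  have hS₀ : S₀ ≤ G₂ := wreath2_le (fun a ha b hb => (𝓕.blk_iff ι a b).mpr ⟨L.le ha, L.le hb⟩) (𝓕.swap_mem ι)
  have hodd : ¬ 2 ∣ (S₀.subgroupOf G₂).index := by
    have h1 := Subgroup.card_mul_index (S₀.subgroupOf G₂)
    rw [Nat.card_congr (Subgroup.subgroupOfEquivOfLe hS₀).toEquiv, card_wreath2, hA, ← pow_mul,
      ← pow_succ'] at h1
    intro hd
    have h2' : 2 ^ ((2 ^ j * N + 2 ^ j - 1) * 2 + 1 + 1) ∣ Nat.card G₂ := by
      rw [← h1, pow_succ]
      exact mul_dvd_mul_left _ hd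
    rw [Nat.Prime.pow_dvd_iff_le_factorization Nat.prime_two Nat.card_pos.ne', 𝓕.card_eq e, hv] at h2'
    have h4 : 2 ^ (j + 1) * N = 2 * (2 ^ j * N) := by ring
    have h5 : 2 ^ (j + 1) = 2 * 2 ^ j := by ring
    have h6 : 1 ≤ 2 ^ j := Nat.one_le_two_pow
    omega
  have hrel : ¬ 2 ∣ S.relIndex K := by
    have hSK : S = S₀ ⊓ K := by
      rw [hS, hK, ← inf_assoc, inf_eq_left.mpr hS₀]
    rw [hSK, Subgroup.inf_relIndex_right]
    haveI : (K.subgroupOf G₂).Normal := by
      have : K.subgroupOf G₂ = ((GeneralLinearGroup.det : GL (ι ⊕ ι) F →* Fˣ).ker).subgroupOf G₂ := by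
        rw [hK, inf_comm, Subgroup.inf_subgroupOf_right]
      rw [this]
      infer_instance
    intro hd
    apply hodd
    rw [index_eq_relIndex_mul (S₀.subgroupOf G₂) (K.subgroupOf G₂),
      Subgroup.relIndex_subgroupOf (inf_le_left : K ≤ G₂)]
    exact hd.mul_right _
  have hd := stepData_det h2 hι L
  refine pron_of_one_sylow_central (P₀ := S.comap φ) (hd.two.comap_of_injective φ hφ)
    (by rwa [Subgroup.index_comap, hrange]) fun b hb hbo => ?_
  obtain ⟨r, hr'⟩ := rigid_det h2 hι L (G₂ := G₂) (fun x y h => (𝓕.blk_iff ι x y).mp h) (φ b)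
    (hrange ▸ ⟨b, rfl⟩ : φ b ∈ K).1
    (by rw [orderOf_injective φ hφ]; exact Nat.coprime_two_right.mp hbo) (fun s hs => by
      have hsK : s ∈ φ.range := by rw [hrange]; exact ⟨hS₀ hs.1, hs.2⟩
      obtain ⟨t, rfl⟩ := hsK
      have ht : t ∈ S.comap φ := hs
      rw [← map_inv, ← map_mul, ← map_mul]
      exact hb.le ⟨t, ht, rfl⟩)
  rw [Subgroup.mem_center_iff]
  intro y
  refine hφ (Units.ext ?_)
  rw [map_mul, map_mul, Units.val_mul, Units.val_mul, hr', mul_smul_comm, smul_mul_assoc, Matrix.one_mul,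
    Matrix.mul_one]

end Fam

/-! ### Arithmetic -/

theorem padic_factorial_two_pow (j : ℕ) : padicValNat 2 (2 ^ j).factorial = 2 ^ j - 1 := by
  haveI : Fact (Nat.Prime 2) := ⟨Nat.prime_two⟩
  induction j with
  | zero => simp
  | succ j ih =>
    rw [pow_succ', padicValNat_factorial_mul, ih]
    have : 1 ≤ 2 ^ j := Nat.one_le_two_pow
    omega

theorem padic_two_mod_four {m : ℕ} (h : m % 4 = 2) : padicValNat 2 m = 1 := by
  rw [show m = 2 * (m / 2) by omega, padicValNat.mul two_ne_zero (by omega), padicValNat_self,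
    padicValNat.eq_zero_of_not_dvd (show ¬ 2 ∣ m / 2 by omega)]

theorem padic_sq_sub_one {q : ℕ} (hq : 1 < q) :
    padicValNat 2 (q ^ 2 - 1) = padicValNat 2 (q + 1) + padicValNat 2 (q - 1) := by
  haveI : Fact (Nat.Prime 2) := ⟨Nat.prime_two⟩
  rw [show q ^ 2 - 1 = (q + 1) * (q - 1) by simpa using Nat.sq_sub_sq q 1,
    padicValNat.mul (by omega) (by omega)]

theorem two_le_padic {m : ℕ} (h : m % 4 = 0) (hm : m ≠ 0) : 2 ≤ padicValNat 2 m := by
  haveI : Fact (Nat.Prime 2) := ⟨Nat.prime_two⟩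
  exact (padicValNat_dvd_iff_le hm).mp (show 2 ^ 2 ∣ m by norm_num; omega)

theorem val_pow_odd_succ {q : ℕ} (hq : Odd q) (hq1 : 1 < q) (k : ℕ) :
    padicValNat 2 (q ^ (2 * k + 1) + 1) = padicValNat 2 (q + 1) := by
  haveI : Fact (Nat.Prime 2) := ⟨Nat.prime_two⟩
  set n := 2 * k + 1
  have hqn : 1 < q ^ n := Nat.one_lt_pow (by omega) hq1
  have h := WreathAb.val_pow_even hq hq1 (k := n) (by omega)
  rw [show q ^ (2 * n) = (q ^ n) ^ 2 by rw [← pow_mul, mul_comm], padic_sq_sub_one hqn,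
    padic_sq_sub_one hq1, WreathAb.val_pow_odd hq hq1 k,
    show padicValNat 2 n = 0 from padicValNat.eq_zero_of_not_dvd (by omega)] at h
  omega

theorem val_prod_gu {q : ℕ} (hq : Odd q) (hq1 : 1 < q) (m : ℕ) :
    padicValNat 2 (∏ i ∈ Finset.range (2 * m), (if Even i then q ^ (i + 1) + 1 else q ^ (i + 1) - 1)) =
      m * (padicValNat 2 (q + 1) + padicValNat 2 (q ^ 2 - 1)) + padicValNat 2 m.factorial := by
  haveI : Fact (Nat.Prime 2) := ⟨Nat.prime_two⟩
  induction m with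
  | zero => simp
  | succ m ih =>
    have hne : ∀ i, (if Even i then q ^ (i + 1) + 1 else q ^ (i + 1) - 1) ≠ 0 := fun i => by
      have := Nat.one_lt_pow (show i + 1 ≠ 0 by omega) hq1
      split_ifs <;> omega
    have hp : ∀ l, ∏ i ∈ Finset.range l, (if Even i then q ^ (i + 1) + 1 else q ^ (i + 1) - 1) ≠ 0 :=
      fun l => Finset.prod_ne_zero_iff.mpr fun i _ => hne i
    rw [show 2 * (m + 1) = 2 * m + 1 + 1 by ring, Finset.prod_range_succ,
      padicValNat.mul (hp _) (hne _), Finset.prod_range_succ, padicValNat.mul (hp _) (hne _), ih,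
      if_pos (even_two_mul m), if_neg (by simp [Nat.even_add_one]),
      val_pow_odd_succ hq hq1, show 2 * m + 1 + 1 = 2 * (m + 1) by ring,
      WreathAb.val_pow_even hq hq1 (by omega), Nat.factorial_succ,
      padicValNat.mul (by omega) (Nat.factorial_ne_zero m)]
    ring

/-! ### The linear family -/

section Linear

variable {F : Type*} [Field F]

/-- All invertible matrices. -/
def glFam (F : Type*) [Field F] : Fam F where
  grp _ _ _ := ⊤
  blk_iff _ _ _ _ _ := by simp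
  swap_mem _ _ _ := trivial
  reindex _ _ _ _ _ _ _ _ _ := trivial

variable [Fintype F]

theorem two_ne_zero_of_odd (h : Odd (Fintype.card F)) : (2 : F) ≠ 0 := by
  intro h0
  have hc : ringChar F = 2 := CharP.ringChar_of_prime_eq_zero Nat.prime_two (by exact_mod_cast h0)
  have := FiniteField.even_card_of_char_two hc
  rw [Nat.odd_iff] at h
  omega

theorem gl_qd_elems (hq : Fintype.card F % 4 = 3) :
    ∃ (c x : GL (Fin 2) F), orderOf c = 2 ^ padicValNat 2 (Fintype.card F ^ 2 - 1) ∧ x * x = 1 ∧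
      x * c * x⁻¹ = c ^ (2 ^ (padicValNat 2 (Fintype.card F ^ 2 - 1) - 1) - 1) := by
  classical
  set q := Fintype.card F with hqdef
  obtain ⟨m, k, hk, hko⟩ := S1217.two_part (N := q + 1) (by omega)
  have hm : 2 ≤ m := by
    by_contra h
    interval_cases m
    · obtain ⟨r, hr⟩ := hko; omega
    · obtain ⟨r, hr⟩ := hko; omega
  set l := q / 2 with hl
  have hlo : Odd l := ⟨q / 4, by omega⟩
  have hq1 : q - 1 = 2 * l := by omega
  have hsq : q ^ 2 - 1 = (q + 1) * (q - 1) := by simpa using Nat.sq_sub_sq q 1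
  have hm1 : padicValNat 2 (q ^ 2 - 1) = m + 1 := by
    haveI : Fact (Nat.Prime 2) := ⟨Nat.prime_two⟩
    have hko' := Nat.odd_iff.mp hko
    rw [padic_sq_sub_one (by omega), padic_two_mod_four (show (q - 1) % 4 = 2 by omega), hk,
      padicValNat.mul (pow_ne_zero _ two_ne_zero) (by omega), padicValNat.prime_pow,
      padicValNat.eq_zero_of_not_dvd (show ¬ 2 ∣ k by omega)]
  rw [hm1]
  obtain ⟨p, hchar⟩ := CharP.exists F
  haveI : Fact p.Prime := ⟨CharP.char_is_prime F p⟩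
  let K := FiniteField.Extension F p 2
  haveI : Fintype K := Fintype.ofFinite K
  have hK : Nat.card K = q ^ 2 := by
    rw [FiniteField.natCard_extension, Nat.card_eq_fintype_card]
  let b : Module.Basis (Fin 2) F K := Module.finBasisOfFinrankEq F K (FiniteField.finrank_extension F p 2)
  let Φ : (Module.End F K)ˣ →* GL (Fin 2) F := Units.map (LinearMap.toMatrixAlgEquiv b).toMulEquiv.toMonoidHom
  have hΦ : Function.Injective Φ := Units.map_injective (LinearMap.toMatrixAlgEquiv b).injective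
  let μ : Kˣ →* (Module.End F K)ˣ := Units.map (Algebra.lmul F K).toMonoidHom
  have hμ : Function.Injective μ := Units.map_injective Algebra.lmul_injective
  let σ := FiniteField.Extension.frob F p 2
  let τ : (Module.End F K)ˣ := ⟨σ.toLinearMap, σ.symm.toLinearMap,
    LinearMap.ext fun u => σ.apply_symm_apply u, LinearMap.ext fun u => σ.symm_apply_apply u⟩
  have hσ : ∀ u : K, σ u = u ^ q := fun u => by
    show FiniteField.Extension.frob F p 2 u = _
    rw [FiniteField.Extension.frob_apply, Nat.card_eq_fintype_card]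
  obtain ⟨a, ha⟩ := S1217.exists_unit_order (F := K) (d := 2 ^ (m + 1)) (by
    rw [Nat.card_units, hK, hsq, hk, hq1]
    exact ⟨k * l, by ring⟩)
  have haq : a ^ q = a ^ (2 ^ (m + 1 - 1) - 1) := by
    rw [pow_eq_pow_iff_modEq, ha, Nat.add_sub_cancel]
    obtain ⟨r, hr⟩ := hko
    have h1 := Nat.one_le_two_pow (n := m)
    have h2 : q + 1 = 2 ^ (m + 1) * r + 2 ^ m := by rw [hk, hr]; ring
    have h3 : q = (2 ^ m - 1) + 2 ^ (m + 1) * r := by omega
    rw [h3]
    exact (Nat.modEq_iff_dvd' (by omega)).mpr ⟨r, by omega⟩ |>.symm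
  refine ⟨Φ (μ a), Φ τ, by rw [orderOf_injective Φ hΦ, orderOf_injective μ hμ, ha], ?_, ?_⟩
  · rw [← map_mul]
    refine (congrArg Φ (Units.ext (LinearMap.ext fun u => ?_))).trans (map_one Φ)
    show σ (σ u) = u
    rw [hσ, hσ, ← pow_mul, ← pow_two, ← hK, Nat.card_eq_fintype_card, FiniteField.pow_card]
  · rw [← map_inv, ← map_mul, ← map_mul, ← map_pow, ← map_pow μ, ← haq]
    refine congrArg Φ (mul_inv_eq_of_eq_mul (Units.ext (LinearMap.ext fun u => ?_)))
    show σ ((a : K) * u) = ((a ^ q : Kˣ) : K) * σ u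
    rw [map_mul, hσ, Units.val_pow_eq_pow_val]

theorem allPron_SL_odd (hodd : Odd (Fintype.card F)) (j : ℕ) :
    AllPron 2 (SpecialLinearGroup (Fin (2 ^ (j + 2))) F) := by
  haveI : Fact (Nat.Prime 2) := ⟨Nat.prime_two⟩
  have h2 := two_ne_zero_of_odd hodd
  have hodd' : Odd (Nat.card F) := by rwa [Nat.card_eq_fintype_card]
  have hqc : Nat.card F = Fintype.card F := Nat.card_eq_fintype_card
  have hq1 : 1 < Fintype.card F := Fintype.one_lt_card
  set q := Fintype.card F
  refine (glFam F).allPron h2 (N := padicValNat 2 (q - 1) + padicValNat 2 (q ^ 2 - 1)) ?_ j ?_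
    SpecialLinearGroup.toGL SpecialLinearGroup.toGL_injective
    (by rw [GLOrder.range_toGL]; exact (top_inf_eq _).symm)
  · have hq4 : q % 4 = 1 ∨ q % 4 = 3 := by rw [Nat.odd_iff] at hodd; omega
    rcases hq4 with hq | hq
    · have ha : 2 ≤ padicValNat 2 (q - 1) := two_le_padic (by omega) (by omega)
      obtain ⟨ε, hε⟩ := S1217.exists_unit_order (F := F) (d := 2 ^ padicValNat 2 (q - 1))
        (by rw [Nat.card_units, hqc]; exact pow_padicValNat_dvd)
      obtain ⟨A, L, hA⟩ := level_wreathed h2 ha hε (G₂ := ⊤) (fun _ _ => trivial) trivial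
      refine ⟨Fin 1 ⊕ Fin 1, inferInstance, inferInstance, A, by simp, L, ?_⟩
      rw [hA, padic_sq_sub_one hq1, padic_two_mod_four (show (q + 1) % 4 = 2 by omega)]
      congr 1
      omega
    · have hm : padicValNat 2 (q ^ 2 - 1) = padicValNat 2 (q + 1) + 1 := by
        rw [padic_sq_sub_one hq1, padic_two_mod_four (show (q - 1) % 4 = 2 by omega)]
      have h3 : 3 ≤ padicValNat 2 (q ^ 2 - 1) := by
        have := two_le_padic (show (q + 1) % 4 = 0 by omega) (by omega)
        omega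
      obtain ⟨c, x, hc, hx, hxc⟩ := gl_qd_elems hq
      obtain ⟨A, L, hA⟩ := level_dihedral h2 (G := ⊤) h3 trivial trivial hc hx hxc
      refine ⟨Fin 2, inferInstance, inferInstance, A, by simp, L, ?_⟩
      rw [hA, padic_two_mod_four (show (q - 1) % 4 = 2 by omega), add_comm]
  · show (Nat.card (⊤ : Subgroup (GL (Fin (2 ^ (j + 2))) F))).factorization 2 = _
    rw [Subgroup.card_top, WreathAb.factorization_card_GL hodd', hqc,
      show (2 : ℕ) ^ (j + 2) = 2 * 2 ^ (j + 1) by ring, WreathAb.val_prod_gl hodd hq1,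
      padic_factorial_two_pow]
    have : 1 ≤ 2 ^ (j + 1) := Nat.one_le_two_pow
    omega

end Linear

/-! ### The unitary family -/

section Unitary

variable {F : Type*} [Field F] [Fintype F] {q : ℕ} (hF : Fintype.card F = q ^ 2)
include hF

/-- The matrices with `gᵀ g^(q) = 1`. -/
def uGrp (ι : Type) [Fintype ι] [DecidableEq ι] : Subgroup (GL ι F) where
  carrier := {g | g.valᵀ * g.val.map (Unitary.conjHom hF) = 1}
  one_mem' := by
    show (1 : Matrix ι ι F)ᵀ * (1 : Matrix ι ι F).map _ = 1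
    rw [Matrix.transpose_one, Matrix.map_one _ (map_zero _) (map_one _), Matrix.one_mul]
  mul_mem' := fun {g h} (hg : g.valᵀ * g.val.map (Unitary.conjHom hF) = 1)
      (hh : h.valᵀ * h.val.map (Unitary.conjHom hF) = 1) => by
    show (g.val * h.val)ᵀ * (g.val * h.val).map (Unitary.conjHom hF) = 1
    rw [Matrix.transpose_mul, Matrix.map_mul, Matrix.mul_assoc, ← Matrix.mul_assoc g.valᵀ, hg,
      Matrix.one_mul, hh]
  inv_mem' := fun {g} (hg : g.valᵀ * g.val.map (Unitary.conjHom hF) = 1) => by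
    show (g⁻¹).valᵀ * (g⁻¹).val.map (Unitary.conjHom hF) = 1
    have h1 : g.val * (g⁻¹).val = 1 := congrArg Units.val (mul_inv_cancel g)
    calc (g⁻¹).valᵀ * (g⁻¹).val.map (Unitary.conjHom hF)
        = (g⁻¹).valᵀ * (g.valᵀ * g.val.map (Unitary.conjHom hF)) * (g⁻¹).val.map (Unitary.conjHom hF) := by
          rw [hg, Matrix.mul_one]
      _ = (g.val * (g⁻¹).val)ᵀ * ((g.val * (g⁻¹).val).map (Unitary.conjHom hF)) := by
          rw [Matrix.transpose_mul, Matrix.map_mul]; simp only [Matrix.mul_assoc]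
      _ = 1 := by rw [h1, Matrix.transpose_one, Matrix.map_one _ (map_zero _) (map_one _), Matrix.one_mul]

/-- The unitary groups. -/
def guFam : Fam F where
  grp ι _ _ := uGrp hF ι
  blk_iff ι _ _ a b := by
    show (blk (a, b)).valᵀ * (blk (a, b)).val.map (Unitary.conjHom hF) = 1 ↔
      a.valᵀ * a.val.map (Unitary.conjHom hF) = 1 ∧ b.valᵀ * b.val.map (Unitary.conjHom hF) = 1
    rw [blk_val, fromBlocks_transpose, fromBlocks_map, fromBlocks_multiply, ← fromBlocks_one, fromBlocks_inj]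
    simp [Matrix.map_zero _ (map_zero (Unitary.conjHom hF))]
  swap_mem ι _ _ := by
    show (swapW F ι).valᵀ * (swapW F ι).val.map (Unitary.conjHom hF) = 1
    rw [swapW_val, fromBlocks_transpose, fromBlocks_map, fromBlocks_multiply, ← fromBlocks_one, fromBlocks_inj]
    simp [Matrix.map_zero _ (map_zero (Unitary.conjHom hF)),
      Matrix.map_one _ (map_zero (Unitary.conjHom hF)) (map_one (Unitary.conjHom hF))]
  reindex ι κ _ _ _ _ e g hg := by
    show (reGL e g).valᵀ * (reGL e g).val.map (Unitary.conjHom hF) = 1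
    have hg' : g.valᵀ * g.val.map (Unitary.conjHom hF) = 1 := hg
    rw [reGL_val]
    simp only [Matrix.reindex_apply, Matrix.transpose_submatrix, ← Matrix.submatrix_map]
    rw [Matrix.submatrix_mul_equiv, hg', Matrix.submatrix_one_equiv]

theorem uGrp_fin (n : ℕ) : uGrp hF (Fin n) = Cfsg.GU n F q := by
  ext g
  show g.valᵀ * g.val.map (Unitary.conjHom hF) = 1 ↔ Unitary.IsUnitary q g.val
  rw [Unitary.isUnitary_iff_orthonormal hF]
  constructor
  · intro h
    have e : ∀ i j, Cfsg.hermForm n F q (g.valᵀ i) (g.valᵀ j) = if i = j then 1 else 0 := fun i j => by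
      rw [← Matrix.one_apply, ← h]
      rfl
    exact ⟨fun i => (e i i).trans (if_pos rfl), fun i j hij => (e i j).trans (if_neg hij)⟩
  · intro hb
    ext i j
    rw [Matrix.one_apply, ← Unitary.Orthonormal.apply hb i j]
    rfl

theorem gu_qd_elems (hq : q % 4 = 1) :
    ∃ (c x : GL (Fin 2) F), c ∈ Cfsg.GU 2 F q ∧ x ∈ Cfsg.GU 2 F q ∧
      orderOf c = 2 ^ padicValNat 2 (q ^ 2 - 1) ∧ x * x = 1 ∧
      x * c * x⁻¹ = c ^ (2 ^ (padicValNat 2 (q ^ 2 - 1) - 1) - 1) := by
  haveI : Fact (Nat.Prime 2) := ⟨Nat.prime_two⟩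
  have h2q : 2 ≤ q := Unitary.two_le_q hF
  have h2 : (2 : F) ≠ 0 := two_ne_zero_of_odd (by rw [hF]; exact (Nat.odd_iff.mpr (by omega)).pow)
  obtain ⟨m, k, hk, hko⟩ := S1217.two_part (N := q - 1) (by omega)
  have hm : 2 ≤ m := by
    by_contra h
    interval_cases m
    · obtain ⟨r, hr⟩ := hko; omega
    · obtain ⟨r, hr⟩ := hko; omega
  have hm1 : padicValNat 2 (q ^ 2 - 1) = m + 1 := by
    have hko' := Nat.odd_iff.mp hko
    rw [padic_sq_sub_one (by omega), padic_two_mod_four (show (q + 1) % 4 = 2 by omega), hk,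
      padicValNat.mul (pow_ne_zero _ two_ne_zero) (by omega), padicValNat.prime_pow,
      padicValNat.eq_zero_of_not_dvd (show ¬ 2 ∣ k by omega)]
    omega
  rw [hm1]
  set l := (q + 1) / 2 with hl
  have hq1 : q + 1 = 2 * l := by omega
  have hsq : q ^ 2 - 1 = (q + 1) * (q - 1) := by simpa using Nat.sq_sub_sq q 1
  obtain ⟨c0, hc0⟩ := Unitary.exists_norm_eq hF (c := -1) (by rw [Unitary.neg_pow_q hF, one_pow])
  have hc0' : c0 ≠ 0 := by
    rintro rfl
    rw [zero_pow (by omega)] at hc0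
    exact one_ne_zero (neg_eq_zero.mp hc0.symm)
  set c := Units.mk0 c0 hc0'
  obtain ⟨a, ha⟩ := S1217.exists_unit_order (F := F) (d := 2 ^ (m + 1)) (by
    rw [Nat.card_units, Nat.card_eq_fintype_card, hF, hsq, hk, hq1]
    exact ⟨l * k, by ring⟩)
  have haq : (a ^ q)⁻¹ = a ^ (2 ^ (m + 1 - 1) - 1) := by
    rw [inv_eq_iff_mul_eq_one, ← pow_add, ← orderOf_dvd_iff_pow_eq_one, ha, Nat.add_sub_cancel]
    obtain ⟨r, hr⟩ := hko
    refine ⟨r + 1, ?_⟩
    have h1 := Nat.one_le_two_pow (n := m)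
    have : 2 ^ (m + 1) * (r + 1) = 2 ^ m * k + 2 ^ m := by rw [hr]; ring
    omega
  set L := S1218.basisGL h2 c
  let φ : Fˣ →* GL (Fin 2) F := (MulAut.conj L).toMonoidHom.comp (S1218.diagPair q)
  have hφ : Function.Injective φ := (MulAut.conj L).injective.comp S1218.diagPair_injective
  set s : GL (Fin 2) F := S1217.swapGL * S1217.diagOne (-1) * S1217.swapGL⁻¹
  have hs : s ∈ Cfsg.GU 2 F q := mul_mem (mul_mem S1218.swap_mem
    (S1218.diagOne_mem hF (Even.neg_one_pow ⟨l, by omega⟩))) (inv_mem S1218.swap_mem)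
  have hsL : L * S1217.swapGL * L⁻¹ = s := S1218.swap_conj_basis h2 c
  refine ⟨φ a, s, S1218.pair_conj_mem hF h2 hc0 a, hs, (orderOf_injective φ hφ a).trans ha, ?_, ?_⟩
  · have h : orderOf s = 2 := by
      rw [← hsL]; exact ((MulAut.conj L).orderOf_eq S1217.swapGL).trans S1217.swapGL_order
    have h' := pow_orderOf_eq_one s
    rw [h] at h'
    rwa [← pow_two]
  · rw [← map_pow, ← haq, ← hsL]
    have hsw : S1217.swapGL * S1218.diagPair q a * S1217.swapGL⁻¹ = S1218.diagPair q (a ^ q)⁻¹ := by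
      apply Units.ext
      rw [S1218.diagPair_val, Units.val_mul, Units.val_mul, S1218.diagPair_val]
      have : ((((a ^ q)⁻¹) ^ q)⁻¹ : Fˣ) = a := by
        rw [inv_pow, inv_inv]
        exact Units.ext (by simpa using Unitary.pow_q_pow_q hF (a : F))
      rw [this]
      show !![0, 1; 1, 0] * !![(a : F), 0; 0, (((a ^ q)⁻¹ : Fˣ) : F)] * !![0, 1; 1, 0] = _
      rw [Matrix.mul_fin_two, Matrix.mul_fin_two]
      simp
    show L * S1217.swapGL * L⁻¹ * (L * S1218.diagPair q a * L⁻¹) * (L * S1217.swapGL * L⁻¹)⁻¹ =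
      L * S1218.diagPair q (a ^ q)⁻¹ * L⁻¹
    rw [← hsw]
    group

theorem allPron_SU_odd (hodd : Odd q) (j : ℕ) : AllPron 2 (Cfsg.SU (2 ^ (j + 2)) F q) := by
  haveI : Fact (Nat.Prime 2) := ⟨Nat.prime_two⟩
  have hq1 : 1 < q := Unitary.two_le_q hF
  have h2 : (2 : F) ≠ 0 := two_ne_zero_of_odd (by rw [hF]; exact hodd.pow)
  let f : Cfsg.SU (2 ^ (j + 2)) F q →* GL (Fin (2 ^ (j + 2))) F :=
    SpecialLinearGroup.toGL.comp (Cfsg.SU (2 ^ (j + 2)) F q).subtype
  refine (guFam hF).allPron h2 (N := padicValNat 2 (q + 1) + padicValNat 2 (q ^ 2 - 1)) ?_ j ?_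
    f (SpecialLinearGroup.toGL_injective.comp Subtype.val_injective) ?_
  · have hq4 : q % 4 = 1 ∨ q % 4 = 3 := by rw [Nat.odd_iff] at hodd; omega
    rcases hq4 with hq | hq
    · have hm : padicValNat 2 (q ^ 2 - 1) = padicValNat 2 (q - 1) + 1 := by
        rw [padic_sq_sub_one hq1, padic_two_mod_four (show (q + 1) % 4 = 2 by omega), add_comm]
      have h3 : 3 ≤ padicValNat 2 (q ^ 2 - 1) := by
        have := two_le_padic (show (q - 1) % 4 = 0 by omega) (by omega)
        omega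
      obtain ⟨c, x, hcm, hxm, hc, hx, hxc⟩ := gu_qd_elems hF hq
      obtain ⟨A, L, hA⟩ := level_dihedral h2 (G := uGrp hF (Fin 2)) h3
        (by rw [uGrp_fin hF]; exact hcm) (by rw [uGrp_fin hF]; exact hxm) hc hx hxc
      refine ⟨Fin 2, inferInstance, inferInstance, A, by simp, L, ?_⟩
      rw [hA, padic_two_mod_four (show (q + 1) % 4 = 2 by omega), add_comm]
    · have ha : 2 ≤ padicValNat 2 (q + 1) := two_le_padic (by omega) (by omega)
      obtain ⟨ε, hε⟩ := S1217.exists_unit_order (F := F) (d := 2 ^ padicValNat 2 (q + 1))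
        (by
          rw [Nat.card_units, Nat.card_eq_fintype_card, hF,
            show q ^ 2 - 1 = (q + 1) * (q - 1) by simpa using Nat.sq_sub_sq q 1]
          exact pow_padicValNat_dvd.mul_right _)
      have hεq : ε ^ (q + 1) = 1 := orderOf_dvd_iff_pow_eq_one.mp (hε ▸ pow_padicValNat_dvd)
      obtain ⟨A, L, hA⟩ := level_wreathed h2 ha hε (G₂ := uGrp hF (Fin 1 ⊕ Fin 1)) (fun u v => by
        refine ((guFam hF).blk_iff (Fin 1) _ _).mpr ⟨?_, ?_⟩
        all_goals
          show (Matrix.scalar (Fin 1) _)ᵀ * (Matrix.scalar (Fin 1) _).map (Unitary.conjHom hF) = 1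
          rw [Matrix.scalar_apply, Matrix.diagonal_transpose, Matrix.diagonal_map (map_zero _),
            Matrix.diagonal_mul_diagonal, ← Matrix.diagonal_one]
          refine congrArg _ (funext fun _ => ?_)
        · obtain ⟨k, hk⟩ := u.2
          show ((u : Fˣ) : F) * ((u : Fˣ) : F) ^ q = 1
          rw [← pow_succ', ← Units.val_pow_eq_pow_val, show ((u : Fˣ)) = ε ^ k from hk.symm, ← zpow_natCast,
            ← _root_.zpow_mul, mul_comm, _root_.zpow_mul, zpow_natCast, hεq, _root_.one_zpow, Units.val_one]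
        · obtain ⟨k, hk⟩ := v.2
          show ((v : Fˣ) : F) * ((v : Fˣ) : F) ^ q = 1
          rw [← pow_succ', ← Units.val_pow_eq_pow_val, show ((v : Fˣ)) = ε ^ k from hk.symm, ← zpow_natCast,
            ← _root_.zpow_mul, mul_comm, _root_.zpow_mul, zpow_natCast, hεq, _root_.one_zpow, Units.val_one])
        ((guFam hF).swap_mem (Fin 1))
      refine ⟨Fin 1 ⊕ Fin 1, inferInstance, inferInstance, A, by simp, L, ?_⟩
      rw [hA, padic_sq_sub_one hq1, padic_two_mod_four (show (q - 1) % 4 = 2 by omega)]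
      congr 1
      omega
  · show (Nat.card (uGrp hF (Fin (2 ^ (j + 2))))).factorization 2 = _
    have hne : ∀ i, (if Even i then q ^ (i + 1) + 1 else q ^ (i + 1) - 1) ≠ 0 := fun i => by
      have := Nat.one_lt_pow (show i + 1 ≠ 0 by omega) hq1
      split_ifs <;> omega
    rw [uGrp_fin hF, Unitary.card_GU hF, Nat.factorization_def _ Nat.prime_two,
      padicValNat.mul (pow_ne_zero _ (by omega)) (Finset.prod_ne_zero_iff.mpr fun i _ => hne i),
      padicValNat.eq_zero_of_not_dvd (fun h => by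
        have := Nat.prime_two.dvd_of_dvd_pow h
        rw [Nat.odd_iff] at hodd
        omega), zero_add,
      show (2 : ℕ) ^ (j + 2) = 2 * 2 ^ (j + 1) by ring, val_prod_gu hodd hq1,
      padic_factorial_two_pow]
    have : 1 ≤ 2 ^ (j + 1) := Nat.one_le_two_pow
    omega
  · ext g
    show _ ↔ g ∈ uGrp hF (Fin (2 ^ (j + 2))) ∧ g ∈ (GeneralLinearGroup.det : GL _ F →* Fˣ).ker
    rw [uGrp_fin hF, ← GLOrder.range_toGL]
    constructor
    · rintro ⟨x, rfl⟩
      exact ⟨x.2, x.1, rfl⟩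
    · rintro ⟨h, x, rfl⟩
      exact ⟨⟨x, h⟩, rfl⟩

end Unitary

end Cfsg.Agent.PronormalOdd
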